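import Mathlib
import Cfsg.Agent.H54.J4.DataTables

/-! Generated certificate data for the presentation of the Mathieu group on two generators. -/

set_option autoImplicit false
set_option maxRecDepth 100000
set_option linter.all false
set_option Elab.async false

namespace H54.J4

noncomputable section

theorem nodesA8 : tabA.nodesOK 46368 5796 = true := by decide +kernel

theorem nodesA9 : tabA.nodesOK 52164 5796 = true := by decide +kernel

theorem nodesA10 : tabA.nodesOK 57960 5796 = true := by decide +kernel

theorem nodesA11 : tabA.nodesOK 63756 5796 = true := by decide +kernel


end

end H54.J4
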