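import Mathlib
import Cfsg.Agent.H54.J4.DataDerivs
import Cfsg.Agent.H54.J4.CheckA0
import Cfsg.Agent.H54.J4.CheckA1
import Cfsg.Agent.H54.J4.CheckA2
import Cfsg.Agent.H54.J4.CheckA3
import Cfsg.Agent.H54.J4.CheckA4
import Cfsg.Agent.H54.J4.CheckA5
import Cfsg.Agent.H54.J4.CheckA6
import Cfsg.Agent.H54.J4.CheckA7

/-!
The group presented by the seven relators on two generators has at most `185472 * 15840` elements.
-/

set_option autoImplicit false
set_option maxRecDepth 100000

namespace H54.J4

open H93.Coset (allRange_spec)

section EvLemmas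

variable {G H : Type*} [Group G] [Group H]

theorem map_gen (f : G →* H) (a b : G) (g : ℕ) : f (gen a b g) = gen (f a) (f b) g := by
  unfold gen; split_ifs <;> simp

theorem map_ev (f : G →* H) (a b : G) (w : List ℕ) : f (ev a b w) = ev (f a) (f b) w := by
  induction w with
  | nil => simp [ev]
  | cons g w ih => simp [ev, map_gen, ih]

theorem ev_pow (a b : G) (u : List ℕ) (k : ℕ) :
    ev a b (List.replicate k u).flatten = ev a b u ^ k := by
  induction k with
  | zero => simp [ev]
  | succ k ih => rw [List.replicate_succ, List.flatten_cons, ev_append, ih, pow_succ]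

theorem ev_flatMap (a b a' b' : G) (σ : ℕ → List ℕ) (hσ : ∀ g, ev a b (σ g) = gen a' b' g)
    (w : List ℕ) : ev a b (w.flatMap σ) = ev a' b' w := by
  induction w with
  | nil => simp [ev]
  | cons g w ih => rw [List.flatMap_cons, ev_append, ih, hσ, ev]

end EvLemmas

/-- relators of the presented group as words in the free group -/
def relSet : Set (FreeGroup (Fin 2)) :=
  {r | ∃ w ∈ relsP, r = ev (FreeGroup.of 0) (FreeGroup.of 1) w}

/-- the group presented by the seven relators -/
abbrev Pres : Type := PresentedGroup relSet

/-- the involution -/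
def gA : Pres := PresentedGroup.of 0
/-- the element of order three -/
def gB : Pres := PresentedGroup.of 1

theorem pres_rel {w : List ℕ} (hw : w ∈ relsP) : ev gA gB w = 1 := by
  have h : PresentedGroup.mk relSet (ev (FreeGroup.of 0) (FreeGroup.of 1) w) = 1 :=
    PresentedGroup.one_of_mem ⟨w, hw, rfl⟩
  rw [map_ev] at h
  exact h

theorem gA_sq : gA * gA = 1 := by
  simpa [ev, gen] using pres_rel (w := [0, 0]) (by simp [relsP])

theorem gB_cube : gB * gB * gB = 1 := by
  simpa [ev, gen] using pres_rel (w := [1, 1, 1]) (by simp [relsP])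

theorem closure_gens : Subgroup.closure ({gA, gB} : Set Pres) = ⊤ := by
  rw [eq_top_iff, ← PresentedGroup.closure_range_of, Subgroup.closure_le]
  rintro _ ⟨i, rfl⟩
  apply Subgroup.subset_closure
  fin_cases i
  · exact Or.inl rfl
  · exact Or.inr rfl

/-- the word of the second generator of the large subgroup -/
def subWord : List ℕ := [2, 0, 1, 0, 1]

/-- substitution of the two generators of the large subgroup -/
def subst : ℕ → List ℕ
  | 0 => [0]
  | 1 => subWord
  | _ => subWord ++ subWord

/-- the second generator of the large subgroup -/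
def gC : Pres := ev gA gB subWord

theorem gC_cube : gC * gC * gC = 1 := by
  have h : ev gA gB (subWord ++ (subWord ++ subWord)) = ev gA gB [] :=
    ev_congr gA_sq gB_cube (by decide +kernel)
  simpa [ev_append, gC, ev] using h

theorem ev_subst (w : List ℕ) : ev gA gB (w.flatMap subst) = ev gA gC w := by
  refine ev_flatMap _ _ _ _ _ (fun g => ?_) w
  match g with
  | 0 => simp [subst, ev, gen]
  | 1 => simp [subst, gen, gC]
  | k + 2 => simp [subst, gen, gC, ev_append]

theorem deriv_hyp {D : Deriv} (hr : D.rels = relsP) (hs : D.subs = []) :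
    D.Hyp gA gB (1 : Pres) := by
  refine ⟨gA_sq, gB_cube, fun w hw x => ?_, fun w hw => ?_⟩
  · rw [hr] at hw; rw [pres_rel hw, one_smul]
  · rw [hs] at hw; simp at hw

theorem of_deriv {D : Deriv} (hr : D.rels = relsP) (hs : D.subs = []) {t w : List ℕ}
    (h : D.ok t w = true) : ev gA gB w = 1 := by
  simpa using Deriv.ok_sound (deriv_hyp hr hs) h

theorem okK1 : drvK1.ok drvK1Target drvK1Word = true := by decide +kernel
theorem okK2 : drvK2.ok drvK2Target drvK2Word = true := by decide +kernel
theorem okK13 : drvK13.ok drvK13Target drvK13Word = true := by decide +kernel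

theorem relsB_subst :
    (relsB.map fun w => red (w.flatMap subst)) =
      [[], [], red drvK1Word, red drvK2Word, red drvK13Word] := by decide +kernel

theorem relB {w : List ℕ} (hw : w ∈ relsB) : ev gA gC w = 1 := by
  rw [← ev_subst, ← ev_red gA_sq gB_cube]
  have h : red (w.flatMap subst) ∈ relsB.map (fun w => red (w.flatMap subst)) :=
    List.mem_map_of_mem hw
  rw [relsB_subst] at h
  simp only [List.mem_cons, List.not_mem_nil, or_false] at h
  rcases h with h | h | h | h | h <;> rw [h]
  · rfl
  · rfl
  · rw [ev_red gA_sq gB_cube]; exact of_deriv rfl rfl okK1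
  · rw [ev_red gA_sq gB_cube]; exact of_deriv rfl rfl okK2
  · rw [ev_red gA_sq gB_cube]; exact of_deriv rfl rfl okK13

theorem nodesB : tabB.nodesOK 0 7920 = true := by decide +kernel

/-- the large subgroup -/
def sub : Subgroup Pres := Subgroup.closure {gA, gC}

theorem gA_mem : gA ∈ sub := Subgroup.subset_closure (Or.inl rfl)
theorem gC_mem : gC ∈ sub := Subgroup.subset_closure (Or.inr rfl)

theorem card_sub : Finite sub ∧ Nat.card sub ≤ 15840 := by
  let a : sub := ⟨gA, gA_mem⟩
  let c : sub := ⟨gC, gC_mem⟩
  have ha : a * a = 1 := Subtype.ext gA_sq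
  have hfin : IsOfFinOrder a := isOfFinOrder_iff_pow_eq_one.mpr ⟨2, two_pos, by rw [pow_two, ha]⟩
  haveI : Finite (Subgroup.zpowers a) := hfin.finite_zpowers.to_subtype
  have hL : Nat.card (Subgroup.zpowers a) ≤ 2 := by
    rw [Nat.card_zpowers]
    exact orderOf_le_of_pow_eq_one two_pos (by rw [pow_two, ha])
  have hev : ∀ w : List ℕ, ((ev a c w : sub) : Pres) = ev gA gC w :=
    fun w => map_ev sub.subtype a c w
  have htop : Subgroup.closure ({a, c} : Set sub) = ⊤ := by
    apply Subgroup.map_injective sub.subtype_injective
    rw [MonoidHom.map_closure, ← MonoidHom.range_eq_map, Subgroup.range_subtype, Set.image_pair]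
    rfl
  have hyp : tabB.Hyp a c ((1 : sub) : sub ⧸ Subgroup.zpowers a) := by
    refine ⟨by norm_num [tabB], le_refl _, rfl, ha, Subtype.ext gC_cube, ?_, ?_,
      Tab.checked_of_range (le_refl _) nodesB, fun h => absurd h (by simp [tabB])⟩
    · intro w hw x
      rw [show ev a c w = 1 from Subtype.ext ((hev w).trans (relB hw)), one_smul]
    · intro w hw
      obtain rfl : w = [0] := by simpa [tabB, subsB] using hw
      show ((ev a c [0] * 1 : sub) : sub ⧸ Subgroup.zpowers a) = _
      rw [QuotientGroup.eq]
      simpa [ev, gen] using Subgroup.mem_zpowers a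
  obtain ⟨hf, hle⟩ := Tab.card_le hyp htop
  refine ⟨hf, hle.trans ?_⟩
  have : tabB.n = 7920 := rfl
  rw [this]
  omega

theorem okA : drvA.ok drvATarget (pathC ++ [0] ++ invW pathD) = true := by decide +kernel

theorem walkC : tabA.walkT 1 pathC 0 (fun e => Nat.beq e tabA.pc) = true := by decide +kernel

theorem walkD : tabA.walkT 1 pathD 0 (fun e => Nat.beq e (tabA.X tabA.pc)) = true := by
  decide +kernel

theorem upto_step {D : Tab} {lo len : ℕ} (h : ∀ c < lo, D.nodeOK c = true)
    (h' : D.nodesOK lo len = true) : ∀ c < lo + len, D.nodeOK c = true := fun c hc => by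
  rcases lt_or_ge c lo with hlt | hge
  · exact h c hlt
  · exact allRange_spec h' c hge hc

theorem checkedA : ∀ c < tabA.n, tabA.nodeOK c = true := by
  have h := upto_step (lo := 0) (fun c hc => absurd hc (Nat.not_lt_zero c)) nodesA0
  replace h := upto_step h nodesA1
  replace h := upto_step h nodesA2
  replace h := upto_step h nodesA3
  replace h := upto_step h nodesA4
  replace h := upto_step h nodesA5
  replace h := upto_step h nodesA6
  replace h := upto_step h nodesA7
  replace h := upto_step h nodesA8
  replace h := upto_step h nodesA9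
  replace h := upto_step h nodesA10
  replace h := upto_step h nodesA11
  replace h := upto_step h nodesA12
  replace h := upto_step h nodesA13
  replace h := upto_step h nodesA14
  replace h := upto_step h nodesA15
  replace h := upto_step h nodesA16
  replace h := upto_step h nodesA17
  replace h := upto_step h nodesA18
  replace h := upto_step h nodesA19
  replace h := upto_step h nodesA20
  replace h := upto_step h nodesA21
  replace h := upto_step h nodesA22
  replace h := upto_step h nodesA23
  replace h := upto_step h nodesA24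
  replace h := upto_step h nodesA25
  replace h := upto_step h nodesA26
  replace h := upto_step h nodesA27
  replace h := upto_step h nodesA28
  replace h := upto_step h nodesA29
  replace h := upto_step h nodesA30
  replace h := upto_step h nodesA31
  exact h

theorem card_pres : Finite Pres ∧ Nat.card Pres ≤ 2937876480 := by
  haveI := card_sub.1
  have hrels : ∀ w ∈ relsP, ∀ x : Pres ⧸ sub, ev gA gB w • x = x := fun w hw x => by
    rw [pres_rel hw, one_smul]
  have hsubs : ∀ w ∈ subsP, ev gA gB w • ((1 : Pres) : Pres ⧸ sub) = ((1 : Pres) : Pres ⧸ sub) := by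
    intro w hw
    show ((ev gA gB w * 1 : Pres) : Pres ⧸ sub) = _
    rw [QuotientGroup.eq, mul_one, mul_one]
    refine inv_mem ?_
    simp only [subsP, List.mem_cons, List.not_mem_nil, or_false] at hw
    rcases hw with rfl | rfl
    · simpa [ev, gen] using gA_mem
    · exact gC_mem
  have hd : drvA.Hyp gA gB ((1 : Pres) : Pres ⧸ sub) := ⟨gA_sq, gB_cube, hrels, hsubs⟩
  have hfix := Deriv.ok_sound hd okA
  have hyp : tabA.Hyp gA gB ((1 : Pres) : Pres ⧸ sub) := by
    refine ⟨by norm_num [tabA], by norm_num [tabA], by norm_num [tabA], gA_sq, gB_cube, hrels,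
      hsubs, checkedA, fun _ hwalk => ?_⟩
    have e1 := hwalk _ _ walkC
    have e2 := hwalk _ _ walkD
    rw [ev_append, ev_append, ev_invW gA_sq gB_cube, mul_smul, mul_smul, e1, inv_smul_eq_iff,
      e2] at hfix
    simpa [ev, gen] using hfix
  obtain ⟨hf, hle⟩ := Tab.card_le hyp closure_gens
  refine ⟨hf, hle.trans ?_⟩
  calc tabA.n * Nat.card sub ≤ 185472 * 15840 := Nat.mul_le_mul (le_refl _) card_sub.2
    _ = 2937876480 := by norm_num

end H54.J4
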