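import Mathlib
import Cfsg.Agent.H54.J4.Bound
import Cfsg.Agent.H90.Simple
import Cfsg.Agent.H97.SchurM24

/-!
The group presented by the seven relators on two generators is isomorphic to the group of the
length-24 code.
-/

set_option autoImplicit false
set_option maxRecDepth 100000

namespace H54.J4

open Cfsg

def xList : List (Fin 24) := [10, 16, 20, 18, 23, 8, 22, 13, 5, 19, 0, 12, 11, 7, 17, 21, 1, 14, 3, 9, 2, 15, 6, 4]
def yList : List (Fin 24) := [0, 1, 10, 3, 11, 2, 6, 15, 21, 13, 5, 23, 18, 16, 12, 17, 9, 7, 14, 19, 20, 22, 8, 4]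
def yInvList : List (Fin 24) := [0, 1, 5, 3, 23, 10, 6, 17, 22, 16, 2, 4, 14, 9, 18, 7, 13, 15, 12, 19, 20, 8, 21, 11]

/-- the involution on 24 positions -/
def permX : Equiv.Perm (Fin 24) where
  toFun i := xList.getD i.val 0
  invFun i := xList.getD i.val 0
  left_inv := by decide +kernel
  right_inv := by decide +kernel

/-- the element of order three on 24 positions -/
def permY : Equiv.Perm (Fin 24) where
  toFun i := yList.getD i.val 0
  invFun i := yInvList.getD i.val 0
  left_inv := by decide +kernel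
  right_inv := by decide +kernel

/-- transport to the 24 points -/
def toPts : Equiv.Perm (Fin 24) →* Equiv.Perm GolayPt := H90.ptEquiv.permCongrHom.toMonoidHom

theorem toPts_apply (σ : Equiv.Perm (Fin 24)) (p : GolayPt) :
    toPts σ p = H90.pt (σ (H90.idx p)) := rfl

theorem repr_toPts {σ : Equiv.Perm (Fin 24)} {n : ℕ}
    (h : ∀ i : Fin 24, (σ i).val = H90.img n i.val) : H90.Repr (toPts σ) n := fun i => by
  rw [toPts_apply, H90.idx_pt, H90.idx_pt, h]

theorem permX_mem : toPts permX ∈ M24 :=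
  (H90.mem_M24_iff_preservesCode (p := 0x219e248dc1ac4eb602656d9179520a)
    (repr_toPts (by decide +kernel))).mpr (by decide +kernel)

theorem permY_mem : toPts permY ∈ M24 :=
  (H90.mem_M24_iff_preservesCode (p := 0x222d49b8e98b212b95b57984b1a820)
    (repr_toPts (by decide +kernel))).mpr (by decide +kernel)

/-- the image of the involution -/
def mA : M24 := ⟨toPts permX, permX_mem⟩
/-- the image of the element of order three -/
def mB : M24 := ⟨toPts permY, permY_mem⟩

theorem perm_rels : ∀ w ∈ relsP, ev permX permY w = 1 := by decide +kernel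

theorem coe_ev (w : List ℕ) :
    ((ev mA mB w : M24) : Equiv.Perm GolayPt) = toPts (ev permX permY w) := by
  rw [map_ev toPts]
  exact map_ev M24.subtype mA mB w

theorem m_rels : ∀ w ∈ relsP, ev mA mB w = 1 := fun w hw =>
  Subtype.ext (by rw [coe_ev, perm_rels w hw, map_one]; rfl)

/-- the map onto the code group -/
def toM24 : Pres →* M24 :=
  PresentedGroup.toGroup (f := ![mA, mB]) (by
    rintro r ⟨w, hw, rfl⟩
    rw [map_ev]
    simpa using m_rels w hw)

theorem toM24_gA : toM24 gA = mA := by simp [toM24, gA]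
theorem toM24_gB : toM24 gB = mB := by simp [toM24, gB]

def wordT : List ℕ := [0, 2, 0, 1, 0, 1, 0, 1, 0, 1, 0, 1, 0, 1, 0, 2, 0, 2, 0, 2, 0, 1, 0, 1, 0, 1, 0, 2, 0, 2, 0, 2, 0, 2, 0, 1, 0, 1, 0, 1, 0, 1, 0, 2, 0, 2, 0, 2, 0, 1]
def wordS : List ℕ := [0, 2, 0, 2, 0, 1, 0, 1, 0, 2, 0, 2, 0, 1, 0, 2, 0, 2, 0, 2, 0, 2, 0, 1, 0, 2, 0, 2, 0, 2, 0, 1, 0, 1, 0, 1, 0, 2, 0, 2, 0, 2, 0, 1, 0, 1, 0, 2, 0, 2, 0, 1, 0, 1]
def wordD : List ℕ := [0, 1, 0, 2, 0, 1, 0, 2, 0, 2, 0, 2, 0, 2, 0, 1, 0, 2, 0, 2, 0, 2, 0, 1, 0, 1, 0, 1, 0, 1, 0, 2, 0, 1, 0, 2, 0, 2, 0, 1, 0, 2, 0, 1, 0, 2, 0, 2, 0, 2, 0, 1, 0, 2, 0]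

theorem repr_wordT : H90.Repr (toPts (ev permX permY wordT)) H90.genTN :=
  repr_toPts (by decide +kernel)
theorem repr_wordS : H90.Repr (toPts (ev permX permY wordS)) H90.genSN :=
  repr_toPts (by decide +kernel)
theorem repr_wordD : H90.Repr (toPts (ev permX permY wordD)) H90.genDN :=
  repr_toPts (by decide +kernel)

theorem toM24_surjective : Function.Surjective toM24 := by
  have hev : ∀ w, ((toM24 (ev gA gB w) : M24) : Equiv.Perm GolayPt) =
      toPts (ev permX permY w) := fun w => by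
    rw [map_ev, toM24_gA, toM24_gB, coe_ev]
  intro g
  have hle : Subgroup.closure H90.gens ≤ toM24.range.map M24.subtype := by
    rw [Subgroup.closure_le]
    rintro σ (rfl | rfl | rfl)
    · exact ⟨_, ⟨ev gA gB wordT, rfl⟩, (hev _).trans (repr_wordT.unique H90.repr_genT)⟩
    · exact ⟨_, ⟨ev gA gB wordS, rfl⟩, (hev _).trans (repr_wordS.unique H90.repr_projInv)⟩
    · exact ⟨_, ⟨ev gA gB wordD, rfl⟩, (hev _).trans (repr_wordD.unique H90.repr_cubeTwist)⟩
  rw [H90.closure_gens] at hle
  obtain ⟨_, ⟨p, rfl⟩, hp⟩ := hle g.2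
  exact ⟨p, Subtype.ext hp⟩

theorem card_ker : Nat.card toM24.ker ≤ 12 := by
  haveI := card_pres.1
  have h := toM24.ker.card_mul_index
  rw [Subgroup.index_ker, MonoidHom.range_eq_top.mpr toM24_surjective, Subgroup.card_top,
    H90.natCard_M24] at h
  have := card_pres.2
  omega

theorem ba_pow : (gB * gA) ^ 23 = 1 := by
  have h := pres_rel (w := (List.replicate 23 [0, 1]).flatten) (by decide +kernel)
  rw [ev_pow] at h
  simpa [ev, gen] using h

theorem eq_one_of_pow_prime {K : Type*} [Finite K] {p : ℕ} (hp : p.Prime) (hK : Nat.card K < p)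
    (σ : Equiv.Perm K) (h : σ ^ p = 1) : σ = 1 := by
  classical
  rcases (Nat.dvd_prime hp).mp (orderOf_dvd_of_pow_eq_one h) with e | e
  · exact orderOf_eq_one_iff.mp e
  · have hd : orderOf σ ∣ Nat.card (Equiv.Perm K) := orderOf_dvd_natCard σ
    rw [Nat.card_perm, e, hp.dvd_factorial] at hd
    omega

theorem trivial_pair {M : Type*} [Group M] {a b : M} (ha : a * a = 1) (hb : b * b * b = 1)
    (hab : b * a = 1) : a = 1 ∧ b = 1 := by
  have e : b = a := (eq_inv_of_mul_eq_one_left hab).trans (inv_eq_of_mul_eq_one_right ha)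
  subst e
  rw [ha, one_mul] at hb
  exact ⟨hb, hb⟩

theorem ker_central : toM24.ker ≤ Subgroup.center Pres := by
  haveI := card_pres.1
  haveI : toM24.ker.Normal := inferInstance
  let ψ : Pres →* MulAut toM24.ker := MulAut.conjNormal
  have h1 : ψ (gB * gA) = 1 := by
    have hp : MulAut.toPerm toM24.ker (ψ (gB * gA)) ^ 23 = 1 := by
      rw [← map_pow, ← map_pow, ba_pow, map_one, map_one]
    have := eq_one_of_pow_prime (by norm_num) (by have := card_ker; omega) _ hp
    exact MulEquiv.toEquiv_injective this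
  obtain ⟨hA, hB⟩ := trivial_pair (a := ψ gA) (b := ψ gB)
    (by rw [← map_mul, gA_sq, map_one]) (by rw [← map_mul, ← map_mul, gB_cube, map_one])
    (by rw [← map_mul, h1])
  have hψ : ψ = 1 := MonoidHom.eq_of_eqOn_dense closure_gens (by
    rintro g (rfl | rfl)
    · simpa using hA
    · simpa using hB)
  intro k hk
  rw [Subgroup.mem_center_iff]
  intro g
  have e : ((ψ g ⟨k, hk⟩ : toM24.ker) : Pres) = k := by rw [hψ]; simp
  rw [MulAut.conjNormal_apply, mul_inv_eq_iff_eq_mul] at e
  exact e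

theorem pres_perfect : commutator Pres = ⊤ := by
  obtain ⟨hA, hB⟩ : Abelianization.of gA = 1 ∧ Abelianization.of gB = 1 := by
    have h2 : Abelianization.of gA * Abelianization.of gA = 1 := by rw [← map_mul, gA_sq, map_one]
    have h3 : Abelianization.of gB * Abelianization.of gB * Abelianization.of gB = 1 := by
      rw [← map_mul, ← map_mul, gB_cube, map_one]
    have h23 : (Abelianization.of gB * Abelianization.of gA) ^ 23 = 1 := by
      rw [← map_mul, ← map_pow, ba_pow, map_one]
    refine trivial_pair h2 h3 ?_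
    set u := Abelianization.of gB * Abelianization.of gA with hu
    have h6 : u ^ 6 = 1 := by
      rw [hu, mul_pow]
      have h3' : Abelianization.of gB ^ 3 = 1 := by rw [pow_succ, pow_two, h3]
      have h2' : Abelianization.of gA ^ 2 = 1 := by rw [pow_two, h2]
      rw [show (6 : ℕ) = 3 * 2 from rfl, pow_mul, h3', one_pow, one_mul, pow_mul', h2', one_pow]
    calc u = u ^ 24 * (u ^ 23)⁻¹ := by group
      _ = 1 := by rw [show (24 : ℕ) = 6 * 4 from rfl, pow_mul, h6, h23]; simp
  rw [eq_top_iff, ← closure_gens, Subgroup.closure_le]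
  rintro g (rfl | rfl)
  · rw [SetLike.mem_coe, ← Abelianization.ker_of, MonoidHom.mem_ker]; exact hA
  · rw [SetLike.mem_coe, ← Abelianization.ker_of, MonoidHom.mem_ker]; exact hB

theorem toM24_bijective : Function.Bijective toM24 := by
  haveI := card_pres.1
  refine ⟨?_, toM24_surjective⟩
  obtain ⟨-, hall⟩ : HasCyclicSchurMultiplier M24 1 := H97.SchurCert.hasTrivialMultiplier_M24
  obtain ⟨π, hπ⟩ := hall Pres toM24
    ⟨toM24_surjective, ker_central, by rw [pres_perfect]; exact le_top⟩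
  rw [← MonoidHom.ker_eq_bot_iff]
  rw [Subgroup.eq_bot_iff_forall]
  intro g hg
  obtain ⟨m, hm⟩ := hπ ⟨g, hg⟩
  rw [Subsingleton.elim m 1, map_one] at hm
  exact (congrArg Subtype.val hm).symm

/-- the isomorphism -/
noncomputable def presEquiv : Pres ≃* M24 := MulEquiv.ofBijective toM24 toM24_bijective

end H54.J4
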