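import Mathlib
import Cfsg.Agent.H54.J4.Model
import Cfsg.Agent.H54.J4.Rep

/-!
The subgroup generated by the images of x and y in the presented fourth Janko group is isomorphic
to the group of the length-24 code.
-/

set_option autoImplicit false
set_option maxRecDepth 100000

namespace H54.J4

open Cfsg

/-- the relators of the presented group -/
abbrev jRels : Set (FreeGroup Spor.J4.Gen) :=
  Spor.coxRelators Spor.J4.edges ∪ {r | r ∈ Spor.J4.extra}

/-- image of x -/
def jX : PresentedGroup jRels := PresentedGroup.mk jRels Spor.J4.x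
/-- image of y -/
def jY : PresentedGroup jRels := PresentedGroup.mk jRels Spor.J4.y

theorem j_rel {r : FreeGroup Spor.J4.Gen} (h : r ∈ Spor.J4.extra) :
    PresentedGroup.mk jRels r = 1 := PresentedGroup.one_of_mem (Or.inr h)

theorem jX_sq : jX * jX = 1 := by
  have h := j_rel (r := Spor.J4.x ^ 2) (by simp [Spor.J4.extra])
  rwa [pow_two, map_mul] at h

theorem jY_cube : jY * jY * jY = 1 := by
  have h := j_rel (r := Spor.J4.y ^ 3) (by simp [Spor.J4.extra])
  rwa [pow_succ, pow_two, map_mul, map_mul] at h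

theorem jX_inv : jX⁻¹ = jX := inv_eq_of_mul_eq_one_right jX_sq
theorem jY_inv : jY⁻¹ = jY * jY := inv_eq_of_mul_eq_one_right ((mul_assoc _ _ _).symm.trans jY_cube)

/-- relators of the small presentation in product form -/
theorem relsP_eq : relsP = [[0, 0], [1, 1, 1], (List.replicate 23 [0, 1]).flatten,
    (List.replicate 12 [0, 2, 0, 1]).flatten,
    (List.replicate 5 [0, 2, 0, 2, 0, 1, 0, 1]).flatten,
    (List.replicate 4 ([0, 1] ++ (List.replicate 3 [0, 1, 0, 2]).flatten)).flatten,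
    (List.replicate 3 [0, 1, 0, 1, 0, 2]).flatten ++ (List.replicate 3 [0, 1, 0, 2, 0, 2]).flatten] := by
  decide +kernel

theorem j_rels : ∀ w ∈ relsP, ev jX jY⁻¹ w = 1 := by
  have inv1 : ∀ {w : List ℕ} {r : FreeGroup Spor.J4.Gen}, r ∈ Spor.J4.extra →
      (ev jX jY⁻¹ w)⁻¹ = PresentedGroup.mk jRels r → ev jX jY⁻¹ w = 1 := by
    intro w r hr e
    rwa [j_rel hr, inv_eq_one] at e
  have r3 := j_rel (r := (Spor.J4.x * Spor.J4.y) ^ 23) (by simp [Spor.J4.extra])
  have fx : PresentedGroup.mk jRels Spor.J4.x = jX := rfl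
  have fy : PresentedGroup.mk jRels Spor.J4.y = jY := rfl
  have y3 : ∀ z : PresentedGroup jRels, jY * (jY * (jY * z)) = z := fun z => by
    rw [← mul_assoc, ← mul_assoc, jY_cube, one_mul]
  intro w hw
  rw [relsP_eq] at hw
  simp only [List.mem_cons, List.not_mem_nil, or_false] at hw
  rcases hw with rfl | rfl | rfl | rfl | rfl | rfl | rfl
  · simpa [ev, gen] using jX_sq
  · simp [ev, gen, jY_inv, ← mul_assoc, jY_cube]
  · refine inv1 (r := (Spor.J4.x * Spor.J4.y) ^ 23) (by simp [Spor.J4.extra]) ?_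
    rw [ev_pow, ← inv_pow, map_pow, map_mul]
    simp [ev, gen, jX_inv, fx, fy]
  · refine inv1 (r := (Spor.J4.x⁻¹ * Spor.J4.y⁻¹ * Spor.J4.x * Spor.J4.y) ^ 12)
      (by simp [Spor.J4.extra]) ?_
    rw [ev_pow, ← inv_pow, map_pow]
    simp [ev, gen, fx, fy, jX_inv, jY_inv, mul_assoc, y3]
  · refine inv1 (r := (Spor.J4.x⁻¹ * (Spor.J4.y * Spor.J4.x * Spor.J4.y)⁻¹ * Spor.J4.x *
      (Spor.J4.y * Spor.J4.x * Spor.J4.y)) ^ 5) (by simp [Spor.J4.extra]) ?_
    rw [ev_pow, ← inv_pow, map_pow]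
    simp [ev, gen, fx, fy, jX_inv, jY_inv, mul_assoc, y3]
  · refine inv1 (r := (Spor.J4.x * Spor.J4.y *
      ((Spor.J4.x * Spor.J4.y * Spor.J4.x * (Spor.J4.y⁻¹)) ^ 3)) ^ 4)
      (by simp [Spor.J4.extra]) ?_
    rw [ev_pow, ← inv_pow, map_pow, ev_append, ev_pow, mul_inv_rev, ← inv_pow, map_mul, map_pow]
    simp [ev, gen, fx, fy, jX_inv, jY_inv, mul_assoc, y3]
  · refine inv1 (r := ((Spor.J4.x * Spor.J4.y * Spor.J4.x * Spor.J4.y * Spor.J4.x *
      (Spor.J4.y⁻¹)) ^ 3) * ((Spor.J4.x * Spor.J4.y * Spor.J4.x * (Spor.J4.y⁻¹) * Spor.J4.x *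
      (Spor.J4.y⁻¹)) ^ 3)) (by simp [Spor.J4.extra]) ?_
    rw [ev_append, ev_pow, ev_pow, mul_inv_rev, ← inv_pow, ← inv_pow, map_mul, map_pow, map_pow]
    simp [ev, gen, fx, fy, jX_inv, jY_inv, mul_assoc, y3]

/-- the small presentation maps into the presented group -/
def toJ : Pres →* PresentedGroup jRels :=
  PresentedGroup.toGroup (f := ![jX, jY⁻¹]) (by
    rintro r ⟨w, hw, rfl⟩
    rw [map_ev]
    simpa using j_rels w hw)

theorem toJ_gA : toJ gA = jX := by simp [toJ, gA]
theorem toJ_gB : toJ gB = jY⁻¹ := by simp [toJ, gB]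

theorem range_toJ : toJ.range =
    (Subgroup.closure ({Spor.J4.x, Spor.J4.y} : Set (FreeGroup Spor.J4.Gen))).map
      (PresentedGroup.mk jRels) := by
  rw [MonoidHom.range_eq_map, ← closure_gens, MonoidHom.map_closure, MonoidHom.map_closure,
    Set.image_pair, Set.image_pair, toJ_gA, toJ_gB]
  show Subgroup.closure {jX, jY⁻¹} = Subgroup.closure {jX, jY}
  apply le_antisymm <;> rw [Subgroup.closure_le] <;> rintro z (rfl | rfl)
  · exact Subgroup.subset_closure (Or.inl rfl)
  · exact inv_mem (Subgroup.subset_closure (Or.inr rfl))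
  · exact Subgroup.subset_closure (Or.inl rfl)
  · simpa using inv_mem (Subgroup.subset_closure (Or.inr rfl) :
      jY⁻¹ ∈ Subgroup.closure ({jX, jY⁻¹} : Set (PresentedGroup jRels)))

theorem toJ_injective : Function.Injective toJ := by
  haveI : IsSimpleGroup M24 := H90.M24_simple
  haveI : IsSimpleGroup Pres := presEquiv.isSimpleGroup
  rcases (MonoidHom.normal_ker toJ).eq_bot_or_eq_top with h | h
  · exact (MonoidHom.ker_eq_bot_iff toJ).mp h
  · exact absurd (toJ_gA.symm.trans (MonoidHom.mem_ker.mp (h ▸ Subgroup.mem_top gA))) Rep.x_ne_one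

/-- the subgroup generated by the images of x and y is isomorphic to the code group -/
theorem xy_iso : Nonempty
    (((Subgroup.closure ({Spor.J4.x, Spor.J4.y} : Set (FreeGroup Spor.J4.Gen))).map
      (PresentedGroup.mk jRels)) ≃* M24) :=
  ⟨((MulEquiv.subgroupCongr range_toJ.symm).trans
    (MonoidHom.ofInjective toJ_injective).symm).trans presEquiv⟩

end H54.J4
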