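import Mathlib
import Cfsg.Agent.H54.J4.Embed
import Cfsg.Agent.H54.J4.LowerData
import Cfsg.Agent.H96.J4Real

/-!
Lower bounds in the 112-dimensional group of the presented fourth Janko group: the image of the
subgroup generated by x, y and s = (y w⁻¹ t w)³ has order 2^11 times that of the code group, and
the order of the whole image is divisible by 86775571046077562880.
-/

set_option autoImplicit false
set_option maxRecDepth 100000
set_option maxHeartbeats 600000

namespace H54.J4.Lower

open H54.J4.Rep H54.J4.LowerData H26.BitCode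
open H93.Coset (force force_eq)

section General

variable {G : Type*} [Group G]

theorem card_sup (A B : Subgroup G) (hBA : B ≤ Subgroup.normalizer (A : Set G))
    (hd : A ⊓ B = ⊥) : Nat.card ↥(A ⊔ B) = Nat.card A * Nat.card B := by
  rw [← Nat.card_prod]
  symm
  refine Nat.card_congr (Equiv.ofBijective
    (fun p : A × B => (⟨p.1.1 * p.2.1, mul_mem (Subgroup.mem_sup_left p.1.2)
      (Subgroup.mem_sup_right p.2.2)⟩ : ↥(A ⊔ B))) ⟨?_, ?_⟩)
  · exact fun p q h => Subgroup.mul_injective_of_disjoint (disjoint_iff.mpr hd)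
      (congrArg Subtype.val h)
  · rintro ⟨g, hg⟩
    have e := Subgroup.coe_mul_of_right_le_normalizer_left A B hBA
    rw [← SetLike.mem_coe, e] at hg
    obtain ⟨a, ha, b, hb, rfl⟩ := hg
    exact ⟨(⟨a, ha⟩, ⟨b, hb⟩), rfl⟩

theorem card_zpowers_prime {g : G} {p : ℕ} (hp : p.Prime) (h : g ^ p = 1) (h1 : g ≠ 1) :
    Nat.card (Subgroup.zpowers g) = p := by
  haveI := Fact.mk hp
  rw [Nat.card_zpowers, orderOf_eq_prime h h1]

theorem inf_zpowers_prime {A : Subgroup G} {g : G} {p : ℕ} (hp : p.Prime) (h : g ^ p = 1)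
    (h1 : g ≠ 1) (hg : g ∉ A) : A ⊓ Subgroup.zpowers g = ⊥ := by
  rw [eq_bot_iff]
  intro u hu
  obtain ⟨huA, hug⟩ := hu
  obtain ⟨k, rfl⟩ := Subgroup.mem_zpowers_iff.mp hug
  rw [Subgroup.mem_bot]
  haveI := Fact.mk hp
  by_contra hne
  apply hg
  have hk : ¬ (p : ℤ) ∣ k := fun ⟨m, hm⟩ => hne (by rw [hm, zpow_mul, zpow_natCast, h, one_zpow])
  obtain ⟨a, b, hab⟩ := (Nat.prime_iff_prime_int.mp hp).coprime_iff_not_dvd.mpr hk
  have : g = (g ^ k) ^ b := by
    rw [← zpow_mul]
    conv_lhs => rw [← zpow_one g, ← hab]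
    rw [zpow_add, mul_comm a, zpow_mul, zpow_natCast, h, one_zpow, one_mul, mul_comm b]
  rw [this]
  exact A.zpow_mem huA _

theorem dvd_of_commutator [Finite G] {S : Subgroup G} {a b z : G} (ha : a ∈ S) (hb : b ∈ S)
    (hz : z = a⁻¹ * b⁻¹ * a * b) (a11 : a ^ 11 = 1) (b11 : b ^ 11 = 1) (z11 : z ^ 11 = 1)
    (za : z * a = a * z) (zb : z * b = b * z) (hz1 : z ≠ 1) (ha1 : a ≠ 1) (hb1 : b ≠ 1) :
    1331 ∣ Nat.card S := by
  have h11 : (11 : ℕ).Prime := by norm_num
  have hab : a * b ≠ b * a := fun e => hz1 (by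
    rw [hz, mul_assoc, e]; group)
  set A := Subgroup.zpowers z ⊔ Subgroup.zpowers a with hA
  have hzA : z ∈ A := Subgroup.mem_sup_left (Subgroup.mem_zpowers z)
  have haA : a ∈ A := Subgroup.mem_sup_right (Subgroup.mem_zpowers a)
  have ha_not : a ∉ Subgroup.zpowers z := fun h => by
    obtain ⟨k, hk⟩ := Subgroup.mem_zpowers_iff.mp h
    exact hab (hk ▸ (Commute.zpow_left zb k))
  have hAc : A ≤ Subgroup.centralizer ({a} : Set G) := by
    rw [hA, sup_le_iff, Subgroup.zpowers_le, Subgroup.zpowers_le, Subgroup.mem_centralizer_iff,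
      Subgroup.mem_centralizer_iff]
    simp [za]
  have hb_not : b ∉ A := fun h => hab ((Subgroup.mem_centralizer_iff.mp (hAc h)) a rfl)
  have cardA : Nat.card A = 121 := by
    rw [hA, card_sup, card_zpowers_prime h11 z11 hz1, card_zpowers_prime h11 a11 ha1]
    · rw [Subgroup.zpowers_le]
      apply Subgroup.centralizer_le_normalizer
      rw [Subgroup.mem_centralizer_iff]
      intro g hg
      obtain ⟨k, rfl⟩ := Subgroup.mem_zpowers_iff.mp hg
      exact Commute.zpow_left za k
    · exact inf_zpowers_prime h11 a11 ha1 ha_not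
  have hbn : Subgroup.zpowers b ≤ Subgroup.normalizer (A : Set G) := by
    rw [Subgroup.zpowers_le]
    refine Subgroup.mem_normalizer_fintype (S := (A : Set G)) fun g hg => ?_
    have hle : A ≤ A.comap (MulAut.conj b).toMonoidHom := by
      rw [hA, sup_le_iff, Subgroup.zpowers_le, Subgroup.zpowers_le, Subgroup.mem_comap,
        Subgroup.mem_comap]
      constructor
      · show b * z * b⁻¹ ∈ A
        rw [← zb, mul_inv_cancel_right]
        exact hzA
      · show b * a * b⁻¹ ∈ A
        have e : a * z⁻¹ = b * a * b⁻¹ := by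
          have e0 : z * (b⁻¹ * a⁻¹ * b) = a⁻¹ := by rw [hz]; group
          have e1 : b⁻¹ * a⁻¹ * b = z⁻¹ * a⁻¹ := eq_inv_mul_of_mul_eq e0
          calc a * z⁻¹ = a * (b * z⁻¹ * b⁻¹) := by
                rw [show b * z⁻¹ = z⁻¹ * b from ((Commute.inv_left zb).eq).symm, mul_inv_cancel_right]
            _ = b * a * b⁻¹ := by rw [hz]; group
        rw [← e]
        exact mul_mem haA (inv_mem hzA)
    exact hle hg
  have hP : Nat.card ↥(A ⊔ Subgroup.zpowers b) = 1331 := by
    rw [card_sup A _ hbn (inf_zpowers_prime h11 b11 hb1 hb_not), cardA,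
      card_zpowers_prime h11 b11 hb1]
  rw [← hP]
  exact Subgroup.card_dvd_of_le (sup_le (sup_le
    (Subgroup.zpowers_le.mpr (hz ▸ mul_mem (mul_mem (mul_mem (inv_mem ha) (inv_mem hb)) ha) hb))
    (Subgroup.zpowers_le.mpr ha)) (Subgroup.zpowers_le.mpr hb))


theorem zpowers_two {g z : G} (hg : g * g = 1) (hz : z ∈ Subgroup.zpowers g) : z = 1 ∨ z = g := by
  obtain ⟨k, rfl⟩ := Subgroup.mem_zpowers_iff.mp hz
  have h2 : g ^ (2 : ℤ) = 1 := by rw [zpow_two, hg]
  rcases Int.even_or_odd' k with ⟨q, rfl | rfl⟩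
  · left; rw [zpow_mul, h2, one_zpow]
  · right; rw [zpow_add, zpow_mul, h2, one_zpow, zpow_one, one_mul]

theorem mem_normalizer_of_le {K : Subgroup G} {g : G} (hK : (K : Set G).Finite)
    (h : K ≤ K.comap (MulAut.conj g).toMonoidHom) : g ∈ Subgroup.normalizer (K : Set G) := by
  haveI := hK.fintype
  exact Subgroup.mem_normalizer_fintype fun v hv => h hv

theorem mem_comap_conj {K : Subgroup G} {g v : G} (h : g * v * g⁻¹ ∈ K) :
    v ∈ K.comap (MulAut.conj g).toMonoidHom := h

theorem inf_eq_bot_of_simple {K M : Subgroup G} [IsSimpleGroup M]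
    (hn : M ≤ Subgroup.normalizer (K : Set G)) (h : ¬ Nat.card M ∣ Nat.card K) : K ⊓ M = ⊥ := by
  have hnorm : (K.subgroupOf M).Normal := ⟨fun v hv g => by
      rw [Subgroup.mem_subgroupOf] at hv ⊢
      exact (Subgroup.mem_normalizer_iff.mp (hn g.2) _).mp hv⟩
  rcases hnorm.eq_bot_or_eq_top with e | e
  · rwa [Subgroup.subgroupOf_eq_bot, disjoint_iff] at e
  · rw [Subgroup.subgroupOf_eq_top] at e
    exact absurd (Subgroup.card_dvd_of_le e) h

theorem isSimple_range {H : Type*} [Group H] [IsSimpleGroup H] {f : H →* G}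
    (hf : Function.Injective f) : IsSimpleGroup f.range :=
  (MonoidHom.ofInjective hf).symm.isSimpleGroup

end General

/-- the representation -/
noncomputable abbrev rho : PresentedGroup jRels →* Matˣ := H96.J4Real.rho

/-- a unit with the given code lies in the subgroup -/
def InC (S : Subgroup Matˣ) (c : ℕ) : Prop := ∃ u ∈ S, Is u c

theorem Is.unique {u v : Matˣ} {c : ℕ} (hu : Is u c) (hv : Is v c) : u = v :=
  Units.ext (hu.trans hv.symm)

theorem InC.mul {S : Subgroup Matˣ} {a b : ℕ} (ha : InC S a) (hb : InC S b) :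
    InC S (mulC a b) := by
  obtain ⟨u, hu, hu'⟩ := ha
  obtain ⟨v, hv, hv'⟩ := hb
  exact ⟨u * v, mul_mem hu hv, hu'.mul hv'⟩

theorem is_one : Is 1 cI := by
  show ((1 : Matˣ) : Mat) = _
  rw [Units.val_one, matC_cI]

/-- run a program whose entries name factors by their distance from the newest value -/
noncomputable def run (p : List (ℕ × ℕ)) (acc : List ℕ) (k : List ℕ → Bool) : Bool :=
  List.rec (motive := fun _ => List ℕ → Bool) k
    (fun ab _ ih acc => force (mulC (acc.getD ab.1 cI) (acc.getD ab.2 cI)) fun v => ih (v :: acc))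
    p acc

theorem run_spec (S : Subgroup Matˣ) (k : List ℕ → Bool) (p : List (ℕ × ℕ)) :
    ∀ acc : List ℕ, (∀ c ∈ acc, InC S c) → run p acc k = true →
      ∃ l : List ℕ, (∀ c ∈ l, InC S c) ∧ k l = true := by
  induction p with
  | nil => intro acc hacc h; exact ⟨acc, hacc, h⟩
  | cons ab p ih =>
    intro acc hacc h
    change force (mulC (acc.getD ab.1 cI) (acc.getD ab.2 cI)) (fun v => run p (v :: acc) k) = true
      at h
    rw [force_eq] at h
    refine ih _ (fun c hc => ?_) h
    have hget : ∀ i, InC S (acc.getD i cI) := fun i => by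
      by_cases hi : i < acc.length
      · rw [List.getD_eq_getElem _ _ hi]; exact hacc _ (List.getElem_mem hi)
      · rw [List.getD_eq_default _ _ (Nat.le_of_not_lt hi)]; exact ⟨1, one_mem _, is_one⟩
    rcases List.mem_cons.mp hc with rfl | hc
    · exact (hget _).mul (hget _)
    · exact hacc c hc

theorem mem_rho_x : uX ∈ rho.range :=
  ⟨PresentedGroup.of Cfsg.Spor.J4.Gen.x, PresentedGroup.toGroup.of rels_hold⟩
theorem mem_rho_y : uY ∈ rho.range :=
  ⟨PresentedGroup.of Cfsg.Spor.J4.Gen.y, PresentedGroup.toGroup.of rels_hold⟩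
theorem mem_rho_t : uT ∈ rho.range :=
  ⟨PresentedGroup.of Cfsg.Spor.J4.Gen.t, PresentedGroup.toGroup.of rels_hold⟩

/-- the final check of the program -/
noncomputable def finalOK (l : List ℕ) : Bool :=
  Nat.beq (l.getD cHIx cI) cH && Nat.beq (l.getD cKIx cI) cK && Nat.beq (l.getD c29Ix cI) c29 &&
    Nat.beq (l.getD c31Ix cI) c31 && Nat.beq (l.getD c37Ix cI) c37 && Nat.beq (l.getD c43Ix cI) c43

theorem run_ok : run prog [cT, cY, cX, cI] finalOK = true := by decide +kernel

theorem members : InC rho.range cH ∧ InC rho.range cK ∧ InC rho.range c29 ∧ InC rho.range c31 ∧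
    InC rho.range c37 ∧ InC rho.range c43 := by
  obtain ⟨l, hl, hk⟩ := run_spec rho.range finalOK prog [cT, cY, cX, cI] (by
    intro c hc
    simp only [List.mem_cons, List.not_mem_nil, or_false] at hc
    rcases hc with rfl | rfl | rfl | rfl
    · exact ⟨uT, mem_rho_t, isT⟩
    · exact ⟨uY, mem_rho_y, isY⟩
    · exact ⟨uX, mem_rho_x, isX⟩
    · exact ⟨1, one_mem _, is_one⟩) run_ok
  have hget : ∀ i, InC rho.range (l.getD i cI) := fun i => by
    by_cases hi : i < l.length
    · rw [List.getD_eq_getElem _ _ hi]; exact hl _ (List.getElem_mem hi)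
    · rw [List.getD_eq_default _ _ (Nat.le_of_not_lt hi)]; exact ⟨1, one_mem _, is_one⟩
  simp only [finalOK, Bool.and_eq_true, Nat.beq_eq] at hk
  obtain ⟨⟨⟨⟨⟨h1, h2⟩, h3⟩, h4⟩, h5⟩, h6⟩ := hk
  exact ⟨h1 ▸ hget _, h2 ▸ hget _, h3 ▸ hget _, h4 ▸ hget _, h5 ▸ hget _, h6 ▸ hget _⟩

theorem lt_cI : cI < 2 ^ (112 * 112) := by decide +kernel

theorem ne_one_of_is {u : Matˣ} {c : ℕ} (hu : Is u c) (hc : c < 2 ^ (112 * 112)) (h : c ≠ cI) :
    u ≠ 1 := fun e => h (H26.BitCode.matC_inj (by norm_num) hc lt_cI (by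
      rw [← hu, e, matC_cI, Units.val_one]))

theorem matC_inj_of {u : Matˣ} {c c' : ℕ} (hc : Is u c) (hc' : Is u c')
    (h : c < 2 ^ (112 * 112)) (h' : c' < 2 ^ (112 * 112)) : c = c' :=
  H26.BitCode.matC_inj (by norm_num) h h' (hc.symm.trans hc')

theorem dvd_of_prime {c p : ℕ} (hp : p.Prime) (hc : InC rho.range c) (h1 : powC c p = cI)
    (hlt : c < 2 ^ (112 * 112)) (hne : c ≠ cI) : p ∣ Nat.card rho.range := by
  obtain ⟨u, hu, hu'⟩ := hc
  rw [← card_zpowers_prime hp (eq_one_of_is (hu'.pow p) h1) (ne_one_of_is hu' hlt hne)]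
  exact Subgroup.card_dvd_of_le (Subgroup.zpowers_le.mpr hu)

theorem sylow_codes :
    powC cH 11 = cI ∧ powC cK 11 = cI ∧ powC cZ 11 = cI ∧ cH ≠ cI ∧ cK ≠ cI ∧ cZ ≠ cI ∧
      mulC cZ cH = mulC cH cZ ∧ mulC cZ cK = mulC cK cZ ∧
      mulC cH cK = mulC (mulC cK cH) cZ := by decide +kernel

theorem bounds : cH < 2 ^ (112 * 112) ∧ cK < 2 ^ (112 * 112) ∧ cZ < 2 ^ (112 * 112) ∧
    c29 < 2 ^ (112 * 112) ∧ c31 < 2 ^ (112 * 112) ∧ c37 < 2 ^ (112 * 112) ∧
    c43 < 2 ^ (112 * 112) := by decide +kernel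

theorem dvd_eleven : 1331 ∣ Nat.card rho.range := by
  obtain ⟨⟨a, ha, ha'⟩, ⟨b, hb, hb'⟩, -, -, -, -⟩ := members
  obtain ⟨pH, pK, pZ, nH, nK, nZ, zh, zk, hk⟩ := sylow_codes
  obtain ⟨bH, bK, bZ, -⟩ := bounds
  set z : Matˣ := a⁻¹ * b⁻¹ * a * b with hz
  have hz' : Is z cZ := by
    have e : ((a * b : Matˣ) : Mat) = ((b * a : Matˣ) : Mat) * matC 112 cZ := by
      rw [ha'.mul hb', hk, matC_mulC, ← hb'.mul ha']
    show ((z : Matˣ) : Mat) = _
    have hzz : z = (b * a)⁻¹ * (a * b) := by rw [hz, mul_inv_rev]; simp only [mul_assoc]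
    rw [hzz, Units.val_mul, e, Units.inv_mul_cancel_left]
  have h11 : (11 : ℕ).Prime := by norm_num
  have a11 : a ^ 11 = 1 := eq_one_of_is (ha'.pow 11) pH
  have b11 : b ^ 11 = 1 := eq_one_of_is (hb'.pow 11) pK
  have z11 : z ^ 11 = 1 := eq_one_of_is (hz'.pow 11) pZ
  have za : z * a = a * z := Units.ext ((hz'.mul ha').trans (zh ▸ (ha'.mul hz').symm))
  have zb : z * b = b * z := Units.ext ((hz'.mul hb').trans (zk ▸ (hb'.mul hz').symm))
  have hz1 : z ≠ 1 := ne_one_of_is hz' bZ nZ
  have ha1 : a ≠ 1 := ne_one_of_is ha' bH nH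
  have hb1 : b ≠ 1 := ne_one_of_is hb' bK nK
  exact dvd_of_commutator ha hb hz a11 b11 z11 za zb hz1 ha1 hb1

/-- the word s -/
def sWord : FreeGroup Cfsg.Spor.J4.Gen :=
  (Cfsg.Spor.J4.y * ((Cfsg.Spor.J4.y * Cfsg.Spor.J4.x) ^ 4 * Cfsg.Spor.J4.y⁻¹ * Cfsg.Spor.J4.x)⁻¹ *
    Cfsg.Spor.J4.t * ((Cfsg.Spor.J4.y * Cfsg.Spor.J4.x) ^ 4 * Cfsg.Spor.J4.y⁻¹ * Cfsg.Spor.J4.x)) ^ 3

/-- the subgroup generated by x, y and s -/
def jN : Subgroup (PresentedGroup jRels) :=
  (Subgroup.closure ({Cfsg.Spor.J4.x, Cfsg.Spor.J4.y, sWord} : Set (FreeGroup Cfsg.Spor.J4.Gen))).map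
    (PresentedGroup.mk jRels)

/-- the image of s -/
noncomputable def uS : Matˣ := rho (PresentedGroup.mk jRels sWord)

theorem uS_eq : FreeGroup.lift fGen sWord = uS := rfl

theorem is_congr {u : Matˣ} {c c' : ℕ} (hu : Is u c) (hc : Nat.beq c c' = true) : Is u c' :=
  Nat.eq_of_beq_eq_true hc ▸ hu

theorem isS : Is uS cE0 := by
  rw [← uS_eq]
  simp only [sWord, Cfsg.Spor.J4.x, Cfsg.Spor.J4.y, Cfsg.Spor.J4.t, map_mul, map_pow, map_inv,
    FreeGroup.lift_apply_of, fGen, mul_inv_rev, inv_inv, uX_inv, uY_inv, uT_inv, ← inv_pow]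
  apply is_congr
  case hu =>
    repeat' (first | with_reducible_and_instances apply isX | with_reducible_and_instances apply isY | with_reducible_and_instances apply isT | with_reducible_and_instances apply Is.mul | with_reducible_and_instances apply Is.pow)
  case hc => decide +kernel

/-- product of the listed basis codes -/
noncomputable def pick (l : List ℕ) : ℕ :=
  List.rec (motive := fun _ => ℕ) cI (fun i _ ih => mulC (basis.getD i cI) ih) l

/-- `f` holds at all products of subsets -/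
noncomputable def dfs (es : List ℕ) (acc : ℕ) (f : ℕ → Bool) : Bool :=
  List.rec (motive := fun _ => ℕ → Bool) f
    (fun e _ ih acc => ih acc && force (mulC acc e) ih) es acc

theorem dfs_nil (acc : ℕ) (f : ℕ → Bool) : dfs [] acc f = f acc := rfl

theorem dfs_cons (e : ℕ) (es : List ℕ) (acc : ℕ) (f : ℕ → Bool) :
    dfs (e :: es) acc f = (dfs es acc f && dfs es (mulC acc e) f) := by
  show (dfs es acc f && force (mulC acc e) (fun a => dfs es a f)) = _
  rw [force_eq]

/-- the subgroup generated by the first `k` basis units -/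
def vSub (E : ℕ → Matˣ) : ℕ → Subgroup Matˣ
  | 0 => ⊥
  | k + 1 => vSub E k ⊔ Subgroup.zpowers (E k)

theorem mulC_lt (a b : ℕ) : mulC a b < 2 ^ (112 * 112) := mulW_lt (by norm_num) ones_eq a b

theorem basis_lt : ∀ i < 11, basis.getD i cI < 2 ^ (112 * 112) := by decide +kernel

theorem comm_pair : ∀ i < 11, ∀ j < 11,
    mulC (basis.getD i cI) (basis.getD j cI) = mulC (basis.getD j cI) (basis.getD i cI) ∧
      mulC (basis.getD i cI) (basis.getD i cI) = cI := by decide +kernel

theorem basis_fresh : ∀ k < 11, dfs (basis.take k) cI (fun a => !(Nat.beq a (basis.getD k cI))) = true := by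
  decide +kernel

theorem chain_ok : ∀ k < 10,
    mulC (mulC (if (chain.getD k (0, 0)).2 = 0 then cX else mulC cY cY)
      (basis.getD (chain.getD k (0, 0)).1 cI))
      (if (chain.getD k (0, 0)).2 = 0 then cX else cY) = basis.getD (k + 1) cI ∧
    (chain.getD k (0, 0)).1 ≤ k := by decide +kernel

theorem conjX_ok : ∀ i < 11, mulC (mulC cX (basis.getD i cI)) cX = pick (conjX.getD i []) ∧
    (conjX.getD i []).all (fun j => Nat.blt j 11) = true := by decide +kernel

theorem conjY_ok : ∀ i < 11,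
    mulC (mulC (mulC cY cY) (basis.getD i cI)) cY = pick (conjY.getD i []) ∧
      (conjY.getD i []).all (fun j => Nat.blt j 11) = true := by decide +kernel

theorem rho_mk_x : rho (PresentedGroup.mk jRels Cfsg.Spor.J4.x) = uX :=
  PresentedGroup.toGroup.of rels_hold
theorem rho_mk_y : rho (PresentedGroup.mk jRels Cfsg.Spor.J4.y) = uY :=
  PresentedGroup.toGroup.of rels_hold

theorem map_jN : jN.map rho = Subgroup.closure {uX, uY, uS} := by
  rw [jN, MonoidHom.map_closure, MonoidHom.map_closure]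
  simp only [Set.image_insert_eq, Set.image_singleton, rho_mk_x, rho_mk_y]
  rfl

theorem basis_in : ∀ i < 11, InC (Subgroup.closure {uX, uY, uS}) (basis.getD i cI) := by
  have hX : uX ∈ Subgroup.closure ({uX, uY, uS} : Set Matˣ) := Subgroup.subset_closure (by simp)
  have hY : uY ∈ Subgroup.closure ({uX, uY, uS} : Set Matˣ) := Subgroup.subset_closure (by simp)
  intro i
  induction i using Nat.strong_induction_on with
  | _ i ih =>
    intro hi
    match i with
    | 0 => exact ⟨uS, Subgroup.subset_closure (by simp), isS⟩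
    | k + 1 =>
      obtain ⟨hc, hle⟩ := chain_ok k (by omega)
      rw [← hc]
      have hp := ih (chain.getD k (0, 0)).1 (by omega) (by omega)
      split_ifs
      · exact (InC.mul ⟨uX, hX, isX⟩ hp).mul ⟨uX, hX, isX⟩
      · exact (InC.mul ⟨uY * uY, mul_mem hY hY, isY.mul isY⟩ hp).mul ⟨uY, hY, isY⟩

/-- the basis units -/
noncomputable def eU (i : ℕ) : Matˣ := if h : i < 11 then (basis_in i h).choose else 1

theorem is_eU {i : ℕ} (h : i < 11) : Is (eU i) (basis.getD i cI) := by
  rw [eU, dif_pos h]; exact (basis_in i h).choose_spec.2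

theorem eU_mem {i : ℕ} (h : i < 11) : eU i ∈ Subgroup.closure {uX, uY, uS} := by
  rw [eU, dif_pos h]; exact (basis_in i h).choose_spec.1

theorem eU_comm {i j : ℕ} (hi : i < 11) (hj : j < 11) : eU i * eU j = eU j * eU i :=
  Is.unique ((is_eU hi).mul (is_eU hj)) ((comm_pair i hi j hj).1 ▸ (is_eU hj).mul (is_eU hi))

theorem eU_sq {i : ℕ} (hi : i < 11) : eU i * eU i = 1 :=
  eq_one_of_is ((is_eU hi).mul (is_eU hi)) (comm_pair i hi i hi).2

attribute [local irreducible] Is uX uY uT uS mulC powC eU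

theorem vSub_comm : ∀ k ≤ 11, ∀ j < 11, ∀ v ∈ vSub eU k, v * eU j = eU j * v := by
  intro k
  induction k with
  | zero => intro _ j _ v hv; rw [vSub, Subgroup.mem_bot] at hv; simp [hv]
  | succ k ih =>
    intro hk j hj v hv
    have hle : vSub eU (k + 1) ≤ Subgroup.centralizer {eU j} := by
      rw [vSub, sup_le_iff, Subgroup.zpowers_le]
      refine ⟨fun w hw => ?_, ?_⟩
      · rw [Subgroup.mem_centralizer_iff]; simp [ih (by omega) j hj w hw]
      · rw [Subgroup.mem_centralizer_iff]; simp [eU_comm (show k < 11 by omega) hj]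
    exact ((Subgroup.mem_centralizer_iff.mp (hle hv)) _ rfl).symm

theorem vSub_dfs : ∀ k ≤ 11, ∀ v ∈ vSub eU k, ∀ (r : List ℕ) (f : ℕ → Bool) (u : Matˣ) (c : ℕ),
    Is u c → c < 2 ^ (112 * 112) → dfs (basis.take k ++ r) c f = true →
      ∃ c', Is (u * v) c' ∧ c' < 2 ^ (112 * 112) ∧ dfs r c' f = true := by
  intro k
  induction k with
  | zero =>
    intro _ v hv r f u c hc hl h
    rw [vSub, Subgroup.mem_bot] at hv
    exact ⟨c, by rw [hv, mul_one]; exact hc, hl, by simpa using h⟩
  | succ k ih =>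
    intro hk v hv r f u c hc hl h
    have hk' : k < 11 := by omega
    have hn : Subgroup.zpowers (eU k) ≤ Subgroup.normalizer (vSub eU k : Set Matˣ) := by
      rw [Subgroup.zpowers_le]
      apply Subgroup.centralizer_le_normalizer
      rw [Subgroup.mem_centralizer_iff]
      exact fun w hw => vSub_comm k (by omega) k hk' w hw
    rw [vSub, ← SetLike.mem_coe, Subgroup.coe_mul_of_right_le_normalizer_left _ _ hn] at hv
    obtain ⟨w, hw, z, hz, rfl⟩ := hv
    have htake : basis.take (k + 1) = basis.take k ++ [basis.getD k cI] := by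
      rw [List.getD_eq_getElem _ _ (show k < basis.length from hk'), List.take_succ_eq_append_getElem]
    rw [htake, List.append_assoc] at h
    obtain ⟨c', hc', hl', h'⟩ := ih (by omega) w hw _ f u c hc hl h
    simp only [List.cons_append, List.nil_append] at h'
    rw [dfs_cons, Bool.and_eq_true] at h'
    have hz2 : z = 1 ∨ z = eU k := zpowers_two (eU_sq hk') hz
    rcases hz2 with rfl | rfl
    · exact ⟨c', by simpa using hc', hl', h'.1⟩
    · exact ⟨_, by simp only [← mul_assoc]; exact hc'.mul (is_eU hk'), mulC_lt _ _, h'.2⟩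

theorem card_vSub : ∀ k ≤ 11, Nat.card (vSub eU k) = 2 ^ k := by
  intro k
  induction k with
  | zero => intro _; simp [vSub]
  | succ k ih =>
    intro hk
    have hk' : k < 11 := by omega
    have hnot : eU k ∉ vSub eU k := fun hmem => by
      obtain ⟨c, hc, hl, hf⟩ := vSub_dfs k (by omega) _ hmem [] _ 1 cI is_one lt_cI
        (by rw [List.append_nil]; exact basis_fresh k hk')
      rw [one_mul] at hc
      rw [dfs_nil] at hf
      have e : c = basis.getD k cI := matC_inj_of hc (is_eU hk') hl (basis_lt k hk')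
      simp [e] at hf
    have h2 : eU k ^ 2 = 1 := by rw [pow_two]; exact eU_sq hk'
    have h1 : eU k ≠ 1 := fun e => hnot (e ▸ one_mem _)
    rw [vSub, card_sup, ih (by omega), card_zpowers_prime Nat.prime_two h2 h1, pow_succ]
    · rw [Subgroup.zpowers_le]
      apply Subgroup.centralizer_le_normalizer
      rw [Subgroup.mem_centralizer_iff]
      exact fun w hw => vSub_comm k (by omega) k hk' w hw
    · exact inf_zpowers_prime Nat.prime_two h2 h1 hnot

theorem pick_mem (l : List ℕ) (h : l.all (fun j => Nat.blt j 11) = true) :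
    ∃ u ∈ vSub eU 11, Is u (pick l) := by
  have hmono : ∀ k, ∀ j < k, eU j ∈ vSub eU k := by
    intro k
    induction k with
    | zero => intro j hj; omega
    | succ k ih =>
      intro j hj
      rcases Nat.lt_succ_iff_lt_or_eq.mp hj with hh | rfl
      · exact Subgroup.mem_sup_left (ih j hh)
      · exact Subgroup.mem_sup_right (Subgroup.mem_zpowers _)
  induction l with
  | nil => exact ⟨1, one_mem _, is_one⟩
  | cons i l ih =>
    simp only [List.all_cons, Bool.and_eq_true] at h
    obtain ⟨u, hu, hu'⟩ := ih h.2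
    have hi : i < 11 := by simpa [Nat.blt] using h.1
    exact ⟨eU i * u, mul_mem (hmono _ i hi) hu, (is_eU hi).mul hu'⟩

theorem eU_zero : eU 0 = uS := Is.unique (is_eU (by norm_num)) isS

theorem vSub_le {H : Subgroup Matˣ} : ∀ k ≤ 11, (∀ i < k, eU i ∈ H) → vSub eU k ≤ H := by
  intro k
  induction k with
  | zero => intro _ _; exact bot_le
  | succ k ih =>
    intro hk h
    exact sup_le (ih (by omega) fun i hi => h i (by omega)) (Subgroup.zpowers_le.mpr (h k (by omega)))

theorem normalises {g g' : Matˣ} {cg cg' : ℕ} (hg : Is g cg) (hg' : Is g' cg') (hgg : g' = g⁻¹)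
    (conj : List (List ℕ)) (hok : ∀ i < 11, mulC (mulC cg' (basis.getD i cI)) cg = pick (conj.getD i [])
      ∧ (conj.getD i []).all (fun j => Nat.blt j 11) = true) :
    g' ∈ Subgroup.normalizer (vSub eU 11 : Set Matˣ) := by
  generalize hK : vSub eU 11 = K at *
  have hfin : (K : Set Matˣ).Finite := Set.finite_coe_iff.mp (Nat.finite_of_card_ne_zero (by
    rw [← hK]; show Nat.card (vSub eU 11) ≠ 0; rw [card_vSub 11 le_rfl]; norm_num))
  have hle : K ≤ K.comap (MulAut.conj g').toMonoidHom := by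
    subst hK
    refine vSub_le 11 le_rfl fun i hi => ?_
    obtain ⟨e, hall⟩ := hok i hi
    obtain ⟨u, hu, hu'⟩ := pick_mem _ hall
    refine mem_comap_conj ?_
    have hh : Is (g' * eU i * g) (pick (conj.getD i [])) := e ▸ (hg'.mul (is_eU hi)).mul hg
    have := Is.unique hh hu'
    rw [show g'⁻¹ = g by rw [hgg, inv_inv], this]
    exact hu
  exact mem_normalizer_of_le hfin hle

/-- the image of the subgroup generated by x and y -/
noncomputable def mSub : Subgroup Matˣ := (rho.comp toJ).range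

theorem mSub_eq : mSub = Subgroup.closure {uX, uY} := by
  rw [mSub, MonoidHom.range_eq_map, ← closure_gens, MonoidHom.map_closure]
  simp only [Set.image_insert_eq, Set.image_singleton, MonoidHom.comp_apply, toJ_gA, toJ_gB,
    map_inv]
  rw [show rho jX = uX from rho_mk_x, show rho jY = uY from rho_mk_y]
  apply le_antisymm <;> rw [Subgroup.closure_le] <;> rintro u (rfl | rfl)
  · exact Subgroup.subset_closure (Or.inl rfl)
  · exact inv_mem (Subgroup.subset_closure (Or.inr rfl))
  · exact Subgroup.subset_closure (Or.inl rfl)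
  · simpa using inv_mem (Subgroup.subset_closure (Or.inr rfl) :
      uY⁻¹ ∈ Subgroup.closure ({uX, uY⁻¹} : Set Matˣ))

theorem comp_injective : Function.Injective (rho.comp toJ) := by
  haveI : IsSimpleGroup Cfsg.M24 := H90.M24_simple
  haveI : IsSimpleGroup Pres := presEquiv.isSimpleGroup
  rcases (MonoidHom.normal_ker (rho.comp toJ)).eq_bot_or_eq_top with h | h
  · exact (MonoidHom.ker_eq_bot_iff _).mp h
  · refine absurd ?_ uX_ne_one
    have e : (rho.comp toJ) gA = 1 := MonoidHom.mem_ker.mp (h ▸ Subgroup.mem_top gA)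
    rwa [MonoidHom.comp_apply, toJ_gA, show rho jX = uX from rho_mk_x] at e

theorem card_mSub : Nat.card mSub = 244823040 := by
  rw [mSub, ← Nat.card_congr (MonoidHom.ofInjective comp_injective).toEquiv,
    Nat.card_congr presEquiv.toEquiv, H90.natCard_M24]

theorem normalizer_mSub : mSub ≤ Subgroup.normalizer (vSub eU 11 : Set Matˣ) := by
  rw [mSub_eq, Subgroup.closure_le]
  rintro u (rfl | rfl)
  · exact normalises isX isX uX_inv.symm conjX conjX_ok
  · have h := inv_mem (normalises (g := uY) (g' := uY⁻¹) isY (uY_inv ▸ isY.mul isY) rfl conjY conjY_ok)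
    simpa using h

theorem inf_eq_bot : vSub eU 11 ⊓ mSub = ⊥ := by
  haveI : IsSimpleGroup Cfsg.M24 := H90.M24_simple
  haveI : IsSimpleGroup Pres := presEquiv.isSimpleGroup
  haveI : IsSimpleGroup mSub := by
    rw [mSub]; exact isSimple_range comp_injective
  refine inf_eq_bot_of_simple normalizer_mSub ?_
  rw [card_vSub 11 le_rfl, card_mSub]
  norm_num

/-- the image of the subgroup generated by x, y and s has order 2^11 times that of the code group -/
theorem card_map_jN : Nat.card (jN.map rho) = 2048 * 244823040 := by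
  rw [map_jN, show Subgroup.closure ({uX, uY, uS} : Set Matˣ) = vSub eU 11 ⊔ mSub from ?_,
    card_sup _ _ normalizer_mSub inf_eq_bot, card_vSub 11 le_rfl, card_mSub]
  · norm_num
  rw [mSub_eq]
  refine le_antisymm ?_ (sup_le (vSub_le 11 le_rfl fun i hi => eU_mem hi)
    (Subgroup.closure_mono (by simp [Set.insert_subset_iff])))
  rw [Subgroup.closure_le]
  rintro u (rfl | rfl | rfl)
  · exact Subgroup.mem_sup_right (Subgroup.subset_closure (Or.inl rfl))
  · exact Subgroup.mem_sup_right (Subgroup.subset_closure (Or.inr rfl))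
  · obtain ⟨u, hu, hu'⟩ := pick_mem [0] (by decide +kernel)
    have : Is u cE0 := by
      rwa [show pick [0] = cE0 from by decide +kernel] at hu'
    exact Subgroup.mem_sup_left (Is.unique this isS ▸ hu)

theorem prime_codes : powC c29 29 = cI ∧ powC c31 31 = cI ∧ powC c37 37 = cI ∧ powC c43 43 = cI ∧
    c29 ≠ cI ∧ c31 ≠ cI ∧ c37 ≠ cI ∧ c43 ≠ cI := by decide +kernel

/-- the order of the fourth Janko group divides the order of the image -/
theorem dvd_card_range : 86775571046077562880 ∣ Nat.card rho.range := by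
  obtain ⟨-, -, h29, h31, h37, h43⟩ := members
  obtain ⟨p29, p31, p37, p43, n29, n31, n37, n43⟩ := prime_codes
  obtain ⟨-, -, -, b29, b31, b37, b43⟩ := bounds
  have d29 := dvd_of_prime (by norm_num : (29 : ℕ).Prime) h29 p29 b29 n29
  have d31 := dvd_of_prime (by norm_num : (31 : ℕ).Prime) h31 p31 b31 n31
  have d37 := dvd_of_prime (by norm_num : (37 : ℕ).Prime) h37 p37 b37 n37
  have d43 := dvd_of_prime (by norm_num : (43 : ℕ).Prime) h43 p43 b43 n43
  have hN : 2048 * 244823040 ∣ Nat.card rho.range := by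
    rw [← card_map_jN]; exact Subgroup.card_dvd_of_le (Subgroup.map_le_range rho jN)
  have e : (86775571046077562880 : ℕ) = 45581598720 * 1331 * 29 * 31 * 37 * 43 := by norm_num
  rw [e]
  refine Nat.Coprime.mul_dvd_of_dvd_of_dvd (by norm_num) ?_ d43
  refine Nat.Coprime.mul_dvd_of_dvd_of_dvd (by norm_num) ?_ d37
  refine Nat.Coprime.mul_dvd_of_dvd_of_dvd (by norm_num) ?_ d31
  refine Nat.Coprime.mul_dvd_of_dvd_of_dvd (by norm_num) ?_ d29
  exact Nat.Coprime.mul_dvd_of_dvd_of_dvd (by norm_num) (Dvd.dvd.trans (by norm_num) hN) dvd_eleven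

/-- lower bound for the presented group -/
theorem le_card [Finite (PresentedGroup jRels)] :
    86775571046077562880 ≤ Nat.card (PresentedGroup jRels) :=
  Nat.le_of_dvd Nat.card_pos (dvd_card_range.trans (Subgroup.card_range_dvd rho))

end H54.J4.Lower
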