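import Mathlib
import Cfsg.Agent.H93.Coset

/-!
Checked coset tables for a group generated by an involution `a` and an element `b` of order three.

Nodes `c < m3` come in triples on which `b` acts as `c ↦ c + 1`, the remaining nodes below `n` are
fixed by `b`. Every other edge carries a time and either is a tree edge, or is the mirror image of
an edge, or follows from a scan of a relator all of whose other edges are older, or is the one
extra edge proved by a separate derivation.
-/

set_option autoImplicit false

namespace H54.J4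

open H93.Coset (force force_eq allRange allRange_spec)

/-- a binary tree of packed numbers -/
inductive Tr where
  | leaf (v : ℕ)
  | node (l r : Tr)

/-- the entry at an index, the lowest bit chooses first -/
noncomputable def Tr.get (t : Tr) (i : ℕ) : ℕ :=
  Tr.rec (motive := fun _ => ℕ → ℕ) (fun v _ => v)
    (fun _ _ l r i => bif Nat.beq (i % 2) 0 then l (i / 2) else r (i / 2)) t i

/-- letters: `0` is `a`, `1` is `b`, all others are `b * b` -/
def gen {G : Type*} [Group G] (a b : G) (g : ℕ) : G :=
  if g = 0 then a else if g = 1 then b else b * b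

/-- value of a word, the first letter acting first -/
def ev {G : Type*} [Group G] (a b : G) : List ℕ → G
  | [] => 1
  | g :: w => ev a b w * gen a b g

section Words

variable {G : Type*} [Group G] (a b : G)

theorem ev_append (u v : List ℕ) : ev a b (u ++ v) = ev a b v * ev a b u := by
  induction u with
  | nil => simp [ev]
  | cons g u ih => simp [ev, ih, mul_assoc]

/-- the inverse letter -/
def ivl : ℕ → ℕ
  | 0 => 0
  | 1 => 2
  | _ => 1

/-- the inverse word -/
def invW (w : List ℕ) : List ℕ := (w.map ivl).reverse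

variable {a b} (ha : a * a = 1) (hb : b * b * b = 1)
include ha hb

theorem gen_ivl (g : ℕ) : gen a b (ivl g) = (gen a b g)⁻¹ := by
  match g with
  | 0 => simpa [ivl, gen] using (inv_eq_of_mul_eq_one_right ha).symm
  | 1 => simpa [ivl, gen] using (inv_eq_of_mul_eq_one_left (show b * b * b = 1 from hb)).symm
  | k + 2 => simpa [ivl, gen] using (inv_eq_of_mul_eq_one_right hb).symm

theorem ev_invW (w : List ℕ) : ev a b (invW w) = (ev a b w)⁻¹ := by
  induction w with
  | nil => simp [invW, ev]
  | cons g w ih =>
    have : invW (g :: w) = invW w ++ [ivl g] := by simp [invW]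
    rw [this, ev_append, ih]
    simp [ev, gen_ivl ha hb]

/-- put a letter in front of a reduced word -/
def push : ℕ → List ℕ → List ℕ
  | 0, 0 :: t => t
  | 1, 1 :: t => 2 :: t
  | 1, 2 :: t => t
  | 2, 1 :: t => t
  | 2, 2 :: t => 1 :: t
  | g, t => g :: t

omit ha hb in
/-- free reduction with `a² = b³ = 1` -/
def red : List ℕ → List ℕ
  | [] => []
  | g :: w => push g (red w)

theorem ev_push (g : ℕ) (w : List ℕ) : ev a b (push g w) = ev a b w * gen a b g := by
  match g, w with
  | 0, 0 :: t => simp [push, ev, gen, mul_assoc, ha]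
  | 1, 1 :: t => simp [push, ev, gen, mul_assoc]
  | 1, 2 :: t => simp [push, ev, gen, mul_assoc, (mul_assoc b b b).symm.trans hb]
  | 2, 1 :: t => simp [push, ev, gen, mul_assoc, (mul_assoc b b b).symm.trans hb]
  | 2, 2 :: t =>
    have h : b * b * (b * b) = b := by rw [← mul_assoc (b * b) b b, hb, one_mul]
    simp [push, ev, gen, mul_assoc]
    simpa [mul_assoc] using h.symm
  | 0, [] => rfl
  | 1, [] => rfl
  | 2, [] => rfl
  | 0, (k + 1) :: t => rfl
  | 1, 0 :: t => rfl
  | 1, (k + 3) :: t => rfl
  | 2, 0 :: t => rfl
  | 2, (k + 3) :: t => rfl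
  | k + 3, t => rfl

theorem ev_red (w : List ℕ) : ev a b (red w) = ev a b w := by
  induction w with
  | nil => rfl
  | cons g w ih => rw [red, ev_push ha hb, ih, ev]

theorem ev_congr {u v : List ℕ} (h : red u = red v) : ev a b u = ev a b v := by
  rw [← ev_red ha hb u, h, ev_red ha hb]

end Words

/-- a table; `rels` are relator words, `subs` subgroup words, `pc` the node of the extra edge -/
structure Tab where
  n : ℕ
  m3 : ℕ
  tr : Tr
  fx : ℕ
  rels : List (List ℕ)
  subs : List (List ℕ)
  pc : ℕ

namespace Tab

variable (D : Tab)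

noncomputable def entry (c : ℕ) : ℕ :=
  force (D.tr.get (c / 128)) fun v => Nat.land (Nat.shiftRight v (68 * (c % 128))) (2 ^ 68 - 1)

noncomputable def X (c : ℕ) : ℕ := Nat.land (D.entry c) (2 ^ 18 - 1)
noncomputable def T (c : ℕ) : ℕ := Nat.land (Nat.shiftRight (D.entry c) 18) (2 ^ 16 - 1)

noncomputable def fentry (c : ℕ) : ℕ :=
  Nat.land (Nat.shiftRight D.fx (68 * (c - D.m3))) (2 ^ 68 - 1)

noncomputable def TY (c : ℕ) : ℕ := Nat.land (Nat.shiftRight (D.fentry c) 18) (2 ^ 16 - 1)

noncomputable def Y (c : ℕ) : ℕ :=
  bif Nat.blt c D.m3 then (bif Nat.beq (c % 3) 2 then c - 2 else c + 1) else c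

noncomputable def st (g c : ℕ) : ℕ :=
  bif Nat.beq g 0 then D.X c else bif Nat.beq g 1 then D.Y c else force (D.Y c) D.Y

noncomputable def et (g c : ℕ) : ℕ :=
  bif Nat.beq g 0 then D.T c else bif Nat.blt c D.m3 then 0 else D.TY c

/-- path all of whose edges are older than `t` -/
noncomputable def walkT (t : ℕ) (w : List ℕ) (c : ℕ) (k : ℕ → Bool) : Bool :=
  List.rec (motive := fun _ => ℕ → Bool) k
    (fun g _ ih c => Nat.blt (D.et g c) t && force (D.st g c) ih) w c

def words : List (List ℕ) := D.rels ++ D.subs

/-- the edge `(g, c, d)` from a scan -/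
noncomputable def scanOK (g c d t r p s : ℕ) : Bool :=
  Nat.blt s D.n && (Nat.blt r D.rels.length || Nat.beq s 0) &&
    match (D.words.getD r []).drop p with
    | [] => false
    | g' :: suf => Nat.beq g' g && D.walkT t ((D.words.getD r []).take p) s (fun e => Nat.beq e c)
        && D.walkT t suf d (fun e => Nat.beq e s)

noncomputable def kindE (e : ℕ) : ℕ := Nat.land (Nat.shiftRight e 34) 3
noncomputable def relE (e : ℕ) : ℕ := Nat.land (Nat.shiftRight e 36) 31
noncomputable def posE (e : ℕ) : ℕ := Nat.land (Nat.shiftRight e 41) 127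
noncomputable def startE (e : ℕ) : ℕ := Nat.land (Nat.shiftRight e 48) (2 ^ 18 - 1)

noncomputable def kind (c : ℕ) : ℕ := kindE (D.entry c)

/-- all checks at a node -/
noncomputable def nodeOK (c : ℕ) : Bool :=
  force (D.entry c) fun e => force (D.X c) fun d => Nat.blt d D.n &&
    (bif Nat.beq (kindE e) 0 then
      Nat.blt 0 c && (Nat.ble D.m3 c || Nat.beq (c % 3) 0) && Nat.blt d c
    else bif Nat.beq (kindE e) 1 then
      Nat.beq (D.X d) c && Nat.beq (D.T d) (D.T c) && !(Nat.beq (D.kind d) 1)
    else bif Nat.beq (kindE e) 2 then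
      force (D.T c) fun t => force (relE e) fun r => force (posE e) fun p => force (startE e) fun s =>
        D.scanOK 0 c d t r p s
    else Nat.beq c D.pc && Nat.blt 0 (D.T c)) &&
    (Nat.blt c D.m3 || force (D.fentry c) fun f => force (D.TY c) fun t =>
      force (relE f) fun r => force (posE f) fun p => force (startE f) fun s =>
        force (kindE f) fun g => (Nat.beq g 1 || Nat.beq g 2) && D.scanOK g c c t r p s)

noncomputable def nodesOK (lo len : ℕ) : Bool := allRange lo len D.nodeOK

variable {G P : Type*} [Group G] [MulAction G P] (a b : G) (x₀ : P)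

/-- the point of a node, defined along the tree -/
noncomputable def node (c : ℕ) : P :=
  if c = 0 then x₀
  else if c < D.m3 ∧ c % 3 ≠ 0 then b • node (c - 1)
  else a • node (min (D.X c) (c - 1))
termination_by c
decreasing_by all_goals omega

/-- the table is proved below time `t` -/
def Known (t : ℕ) : Prop :=
  ∀ g c, c < D.n → D.et g c < t → gen a b g • D.node a b x₀ c = D.node a b x₀ (D.st g c)

/-- all hypotheses of soundness -/
structure Hyp : Prop where
  pos : 0 < D.n
  le : D.m3 ≤ D.n
  three : D.m3 % 3 = 0
  sqa : a * a = 1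
  cubeb : b * b * b = 1
  rels : ∀ w ∈ D.rels, ∀ x : P, ev a b w • x = x
  subs : ∀ w ∈ D.subs, ev a b w • x₀ = x₀
  checked : ∀ c < D.n, D.nodeOK c = true
  patch : D.pc < D.n →
    (∀ w c, D.walkT 1 w 0 (fun e => Nat.beq e c) = true → ev a b w • x₀ = D.node a b x₀ c) →
    a • D.node a b x₀ D.pc = D.node a b x₀ (D.X D.pc)

variable {D a b x₀}

theorem node_zero : D.node a b x₀ 0 = x₀ := by rw [node]; simp

theorem blt_iff {m n : ℕ} : Nat.blt m n = true ↔ m < n := by simp [Nat.blt]

theorem Y_lt (h : D.Hyp a b x₀) {c : ℕ} (hc : c < D.n) : D.Y c < D.n := by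
  have := h.le; have := h.three
  unfold Y
  rcases hb : Nat.blt c D.m3 with _ | _
  · simpa using hc
  · have hlt := blt_iff.mp hb
    rcases hm : Nat.beq (c % 3) 2 with _ | _
    · have : c % 3 ≠ 2 := fun e => by simp [e] at hm
      simp only [cond_true, cond_false]; omega
    · simp only [cond_true]; omega

theorem X_lt (h : D.Hyp a b x₀) {c : ℕ} (hc : c < D.n) : D.X c < D.n := by
  have he := h.checked c hc
  simp only [nodeOK, force_eq, Bool.and_eq_true, blt_iff] at he
  exact he.1.1

theorem st_lt (h : D.Hyp a b x₀) (g : ℕ) {c : ℕ} (hc : c < D.n) : D.st g c < D.n := by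
  unfold st
  rw [force_eq]
  cases Nat.beq g 0 <;> cases Nat.beq g 1 <;>
    simp [X_lt h hc, Y_lt h hc, Y_lt h (Y_lt h hc)]

theorem node_b_triple (h : D.Hyp a b x₀) {c : ℕ} (hc : c < D.m3) :
    b • D.node a b x₀ c = D.node a b x₀ (D.Y c) := by
  have h3 := h.three
  have hY : D.Y c = if c % 3 = 2 then c - 2 else c + 1 := by
    unfold Y
    rw [blt_iff.mpr hc, cond_true]
    by_cases e : c % 3 = 2
    · simp [e]
    · rw [if_neg e]
      rcases hm : Nat.beq (c % 3) 2 with _ | _
      · rfl
      · exact absurd (Nat.eq_of_beq_eq_true hm) e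
  have up : ∀ d, d < D.m3 → d % 3 ≠ 2 → b • D.node a b x₀ d = D.node a b x₀ (d + 1) := by
    intro d hd h2
    conv_rhs => rw [node, if_neg (by omega), if_pos (by omega), Nat.add_sub_cancel]
  rw [hY]
  by_cases e : c % 3 = 2
  · rw [if_pos e]
    have e1 := up (c - 2) (by omega) (by omega)
    have e2 := up (c - 2 + 1) (by omega) (by omega)
    rw [show c - 2 + 1 + 1 = c by omega, ← e1] at e2
    rw [← e2, smul_smul, smul_smul, h.cubeb, one_smul]
  · rw [if_neg e]; exact up c hc e

theorem walkT_sound (h : D.Hyp a b x₀) {t : ℕ} (hk : D.Known a b x₀ t) (w : List ℕ) :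
    ∀ {c e : ℕ}, c < D.n → D.walkT t w c (fun x => Nat.beq x e) = true →
      ev a b w • D.node a b x₀ c = D.node a b x₀ e := by
  induction w with
  | nil =>
    intro c e _ hw
    change Nat.beq c e = true at hw
    rw [Nat.eq_of_beq_eq_true hw]; simp [ev]
  | cons g w ih =>
    intro c e hc hw
    change (Nat.blt (D.et g c) t && force (D.st g c) (fun c => D.walkT t w c _)) = true at hw
    simp only [force_eq, Bool.and_eq_true, blt_iff] at hw
    rw [ev, mul_smul, hk g c hc hw.1]
    exact ih (st_lt h g hc) hw.2

theorem scanOK_sound (h : D.Hyp a b x₀) {t g c d r p s : ℕ} (hk : D.Known a b x₀ t) (hd : d < D.n)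
    (hs : D.scanOK g c d t r p s = true) :
    gen a b g • D.node a b x₀ c = D.node a b x₀ d := by
  simp only [scanOK, Bool.and_eq_true, Bool.or_eq_true, blt_iff, Nat.beq_eq] at hs
  obtain ⟨⟨hsn, hrs⟩, hm⟩ := hs
  split at hm
  · exact absurd hm (by simp)
  rename_i g' suf hdrop
  simp only [Bool.and_eq_true, Nat.beq_eq] at hm
  obtain ⟨⟨rfl, hu⟩, hv⟩ := hm
  have hfix : ev a b (D.words.getD r []) • D.node a b x₀ s = D.node a b x₀ s := by
    rw [List.getD_eq_getElem?_getD]
    rcases hw : D.words[r]? with _ | w
    · simp [ev]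
    simp only [Option.getD_some]
    have hmem : w ∈ D.rels ∨ w ∈ D.subs := List.mem_append.mp (List.mem_of_getElem? hw)
    rcases hrs with hr | rfl
    · rw [words, List.getElem?_append_left hr] at hw
      exact h.rels w (List.mem_of_getElem? hw) _
    · rw [node_zero]
      rcases hmem with hm | hm
      · exact h.rels w hm _
      · exact h.subs w hm
  have eu := walkT_sound h hk _ hsn hu
  have ev' := walkT_sound h hk _ hd hv
  conv at hfix => lhs; arg 1; rw [← List.take_append_drop p (D.words.getD r []), hdrop]
  rw [ev_append, ev, mul_smul, mul_smul, eu] at hfix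
  exact smul_left_cancel _ (hfix.trans ev'.symm)

theorem table_sound (h : D.Hyp a b x₀) : ∀ t, D.Known a b x₀ t := by
  intro t
  induction t using Nat.strong_induction_on with
  | _ t ih =>
    intro g c hc hlt
    have hk : D.Known a b x₀ (D.et g c) := ih _ hlt
    have direct : ∀ d, d < D.n → D.T d = D.et g c → D.kind d ≠ 1 →
        a • D.node a b x₀ d = D.node a b x₀ (D.X d) := by
      intro d hd hT hk1
      have he := h.checked d hd
      simp only [nodeOK, force_eq, Bool.and_eq_true] at he
      obtain ⟨⟨hX, hj⟩, -⟩ := he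
      change kindE (D.entry d) ≠ 1 at hk1
      rcases h0 : Nat.beq (kindE (D.entry d)) 0 with _ | _
      · rw [h0, cond_false, show Nat.beq (kindE (D.entry d)) 1 = false from
          Bool.eq_false_iff.mpr fun e => hk1 (Nat.eq_of_beq_eq_true e), cond_false] at hj
        rcases h2 : Nat.beq (kindE (D.entry d)) 2 with _ | _
        · rw [h2, cond_false] at hj
          simp only [Bool.and_eq_true, Nat.beq_eq, blt_iff] at hj
          obtain ⟨rfl, hpos⟩ := hj
          refine h.patch hd fun w e hw => ?_
          have hk1' : D.Known a b x₀ 1 := fun g' c' hc' h' => hk g' c' hc' (by omega)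
          simpa [node_zero] using walkT_sound h hk1' w h.pos hw
        · rw [h2, cond_true] at hj
          rw [hT] at hj
          simpa [gen] using scanOK_sound h hk (blt_iff.mp hX) hj
      · rw [h0, cond_true] at hj
        simp only [Bool.and_eq_true, Bool.or_eq_true, Nat.ble_eq, Nat.beq_eq, blt_iff] at hj
        obtain ⟨⟨hd0, hroot⟩, hXd⟩ := hj
        conv_lhs => rw [node, if_neg (by omega), if_neg (by omega), min_eq_left (by omega)]
        rw [smul_smul, h.sqa, one_smul]
    have bEdge : ∀ d, d < D.n → (d < D.m3 ∨ D.TY d = D.et g c) →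
        b • D.node a b x₀ d = D.node a b x₀ (D.Y d) := by
      intro d hd hor
      by_cases hlt' : d < D.m3
      · exact node_b_triple h hlt'
      have hT := hor.resolve_left hlt'
      have hbl : Nat.blt d D.m3 = false := Bool.eq_false_iff.mpr fun e => hlt' (blt_iff.mp e)
      have he := h.checked d hd
      simp only [nodeOK, force_eq, Bool.and_eq_true, Bool.or_eq_true, hbl, Nat.beq_eq,
        Bool.false_eq_true, false_or] at he
      obtain ⟨-, hg, hs⟩ := he
      rw [hT] at hs
      have e := scanOK_sound h hk hd hs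
      rw [Y, hbl, cond_false]
      rcases hg with hg | hg <;> rw [hg] at e
      · simpa [gen] using e
      · simp only [gen, if_neg (show (2 : ℕ) ≠ 0 by omega), if_neg (show (2 : ℕ) ≠ 1 by omega)] at e
        calc b • D.node a b x₀ d = b • ((b * b) • D.node a b x₀ d) := by rw [e]
          _ = D.node a b x₀ d := by rw [smul_smul, ← mul_assoc, h.cubeb, one_smul]
    by_cases hg0 : g = 0
    · subst hg0
      have hT : D.et 0 c = D.T c := rfl
      show gen a b 0 • D.node a b x₀ c = D.node a b x₀ (D.X c)
      rw [show gen a b 0 = a from rfl]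
      by_cases hk1 : D.kind c = 1
      · have he := h.checked c hc
        simp only [nodeOK, force_eq, Bool.and_eq_true] at he
        obtain ⟨⟨hX, hj⟩, -⟩ := he
        rw [show kindE (D.entry c) = 1 from hk1] at hj
        simp only [show Nat.beq 1 0 = false from rfl, show Nat.beq 1 1 = true from rfl, cond_false,
          cond_true, Bool.and_eq_true, Nat.beq_eq, Bool.not_eq_true'] at hj
        obtain ⟨⟨hXX, hTT⟩, hkk⟩ := hj
        have e := direct _ (blt_iff.mp hX) (by rw [hT, hTT]) (fun e => by simp [e] at hkk)
        rw [hXX] at e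
        rw [← e, smul_smul, h.sqa, one_smul]
      · exact direct c hc hT.symm hk1
    · have hg : Nat.beq g 0 = false := Bool.eq_false_iff.mpr fun e => hg0 (Nat.eq_of_beq_eq_true e)
      have het : c < D.m3 ∨ D.TY c = D.et g c := by
        by_cases hlt' : c < D.m3
        · exact Or.inl hlt'
        · refine Or.inr ?_
          rw [et, hg, cond_false, Bool.eq_false_iff.mpr fun e => hlt' (blt_iff.mp e), cond_false]
      have e1 := bEdge c hc het
      rw [st, hg, cond_false]
      by_cases hg1 : g = 1
      · subst hg1
        simpa [gen] using e1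
      · rw [Bool.eq_false_iff.mpr fun e => hg1 (Nat.eq_of_beq_eq_true e), cond_false, force_eq,
          gen, if_neg hg0, if_neg hg1, mul_smul, e1]
        refine bEdge _ (Y_lt h hc) ?_
        rcases het with hlt' | hT
        · left
          have h3 := h.three
          rw [Y, blt_iff.mpr hlt', cond_true]
          rcases hm : Nat.beq (c % 3) 2 with _ | _
          · have : c % 3 ≠ 2 := fun e => by simp [e] at hm
            simp only [cond_false]; omega
          · simp only [cond_true]; omega
        · by_cases hlt' : c < D.m3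
          · left
            have h3 := h.three
            rw [Y, blt_iff.mpr hlt', cond_true]
            rcases hm : Nat.beq (c % 3) 2 with _ | _
            · have : c % 3 ≠ 2 := fun e => by simp [e] at hm
              simp only [cond_false]; omega
            · simp only [cond_true]; omega
          · right
            rwa [Y, Bool.eq_false_iff.mpr fun e => hlt' (blt_iff.mp e), cond_false]

theorem edge_sound (h : D.Hyp a b x₀) (g c : ℕ) (hc : c < D.n) :
    gen a b g • D.node a b x₀ c = D.node a b x₀ (D.st g c) :=
  table_sound h (D.et g c + 1) g c hc (Nat.lt_succ_self _)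

/-- every point of the orbit is a node -/
theorem node_surj (h : D.Hyp a b x₀) {z : G} (hz : z ∈ Subgroup.closure ({a, b} : Set G)) :
    ∃ c < D.n, D.node a b x₀ c = z • x₀ := by
  suffices H : ∀ c < D.n, ∃ d < D.n, D.node a b x₀ d = z • D.node a b x₀ c by
    simpa [node_zero] using H 0 h.pos
  have hgen : ∀ g, ∀ c < D.n, ∃ d < D.n, D.node a b x₀ d = gen a b g • D.node a b x₀ c :=
    fun g c hc => ⟨_, st_lt h g hc, (edge_sound h g c hc).symm⟩
  induction hz using Subgroup.closure_induction'' with
  | mem y hy =>
    rcases hy with rfl | rfl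
    · simpa [gen] using hgen 0
    · simpa [gen] using hgen 1
  | inv_mem y hy =>
    rcases hy with rfl | rfl
    · simpa [gen, inv_eq_of_mul_eq_one_right h.sqa] using hgen 0
    · simpa [gen, inv_eq_of_mul_eq_one_left h.cubeb] using hgen 2
  | one => exact fun c hc => ⟨c, hc, (one_smul G _).symm⟩
  | mul y w _ _ hy hw =>
    intro c hc
    obtain ⟨d, hd, hd'⟩ := hw c hc
    obtain ⟨e, he, he'⟩ := hy d hd
    exact ⟨e, he, by rw [he', hd', mul_smul]⟩

/-- a group generated by `a` and `b` has at most `n` cosets of a subgroup -/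
theorem card_le {L : Subgroup G} [Finite L] (h : D.Hyp a b ((1 : G) : G ⧸ L))
    (htop : Subgroup.closure ({a, b} : Set G) = ⊤) :
    Finite G ∧ Nat.card G ≤ D.n * Nat.card L := by
  have hs : Function.Surjective fun c : Fin D.n => D.node a b ((1 : G) : G ⧸ L) c.val := by
    intro q
    induction q using QuotientGroup.induction_on with
    | _ z =>
      obtain ⟨c, hc, e⟩ := node_surj h (htop ▸ Subgroup.mem_top z)
      exact ⟨⟨c, hc⟩, e.trans (congrArg (fun w : G => (w : G ⧸ L)) (mul_one z))⟩
  haveI : Finite (G ⧸ L) := Finite.of_surjective _ hs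
  haveI : Finite G := Finite.of_equiv ((G ⧸ L) × L) (Subgroup.groupEquivQuotientProdSubgroup (s := L)).symm
  refine ⟨inferInstance, ?_⟩
  rw [Subgroup.card_eq_card_quotient_mul_card_subgroup L]
  refine Nat.mul_le_mul_right _ ?_
  simpa using Nat.card_le_card_of_surjective _ hs

theorem checked_of_range {n : ℕ} (hn : D.n ≤ n) (h : D.nodesOK 0 n = true) :
    ∀ c < D.n, D.nodeOK c = true :=
  fun c hc => allRange_spec h c (Nat.zero_le c) (by omega)

end Tab

end H54.J4
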