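import Mathlib
import Cfsg.Agent.H54.J4.Table

/-!
Checked derivations: a list of facts, each saying that a letter (or the empty word) moves one
auxiliary point to another, every fact following from earlier ones.
-/

set_option autoImplicit false

namespace H54.J4

/-- rule, word number, rotation, items; an item is twice a fact number plus the direction -/
abbrev Line := ℕ × ℕ × ℕ × List ℕ

/-- a derivation: `pts` packs (parent, letter) of the auxiliary points, `ends` the end points and
letters of the facts -/
structure Deriv where
  pts : ℕ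
  ends : ℕ
  lines : List Line
  rels : List (List ℕ)
  subs : List (List ℕ)

namespace Deriv

variable (D : Deriv)

def fA (k : ℕ) : ℕ := Nat.land (Nat.shiftRight D.ends (32 * k)) 4095
def fB (k : ℕ) : ℕ := Nat.land (Nat.shiftRight D.ends (32 * k + 12)) 4095
def fG (k : ℕ) : ℕ := Nat.land (Nat.shiftRight D.ends (32 * k + 24)) 3
def pPar (m : ℕ) : ℕ := Nat.land (Nat.shiftRight D.pts (16 * m)) 4095
def pLet (m : ℕ) : ℕ := Nat.land (Nat.shiftRight D.pts (16 * m + 12)) 3

/-- the word of a letter, `2` standing for the empty word -/
def letW : ℕ → List ℕ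
  | 0 => [0]
  | 1 => [1]
  | _ => []

def word (r : ℕ) : List ℕ :=
  if r < D.rels.length then D.rels.getD r [] else invW (D.rels.getD (r - D.rels.length) [])

/-- an item as start, word, end -/
def item (len it : ℕ) : Option (ℕ × List ℕ × ℕ) :=
  if it / 2 < len then
    if it % 2 = 0 then some (D.fA (it / 2), letW (D.fG (it / 2)), D.fB (it / 2))
    else some (D.fB (it / 2), invW (letW (D.fG (it / 2))), D.fA (it / 2))
  else none

/-- word and end of a path -/
def path (len : ℕ) : List ℕ → ℕ → Option (List ℕ × ℕ)
  | [], a => some ([], a)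
  | it :: is, a =>
    match D.item len it with
    | none => none
    | some (x, u, y) =>
      if x = a then (path len is y).map (fun r => (u ++ r.1, r.2)) else none

def factOK (k : ℕ) : Line → Bool
  | (0, _, _, _) =>
    decide (D.fG k < 2 ∧ ((D.fA k < D.fB k ∧ D.pPar (D.fB k) = D.fA k ∧ D.pLet (D.fB k) = D.fG k) ∨
      (D.fG k = 1 ∧ D.fB k < D.fA k ∧ D.pPar (D.fA k) = D.fB k ∧ D.pLet (D.fA k) = 2)))
  | (1, _, _, is) =>
    match D.path k is (D.fA k) with
    | none => false
    | some (u, e) => decide (e = D.fB k ∧ red u = red (letW (D.fG k)))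
  | (2, r, q, is) =>
    match D.path k is (D.fB k) with
    | none => false
    | some (u, e) =>
      decide (e = D.fA k ∧ letW (D.fG k) ++ u = (D.word r).drop q ++ (D.word r).take q)
  | (_, r, _, is) =>
    match D.path k is 0 with
    | none => false
    | some (u, e) =>
      decide (e = D.fA k ∧ D.fB k = 0 ∧ r < D.subs.length ∧ u ++ letW (D.fG k) = D.subs.getD r [])

def linesOK : List Line → ℕ → Bool
  | [], _ => true
  | l :: ls, k => D.factOK k l && linesOK ls (k + 1)

/-- every fact holds and the target path is a loop at `0` spelling `w` -/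
def ok (target : List ℕ) (w : List ℕ) : Bool :=
  D.linesOK D.lines 0 &&
    match D.path D.lines.length target 0 with
    | none => false
    | some (u, e) => decide (e = 0 ∧ red u = red w)

variable {G P : Type*} [Group G] [MulAction G P] (a b : G) (x₀ : P)

/-- the auxiliary points -/
def pt (m : ℕ) : P :=
  if m = 0 then x₀ else gen a b (D.pLet m) • pt (min (D.pPar m) (m - 1))
termination_by m
decreasing_by omega

theorem pt_zero : D.pt a b x₀ 0 = x₀ := by rw [pt]; simp

def Holds (k : ℕ) : Prop :=
  ev a b (letW (D.fG k)) • D.pt a b x₀ (D.fA k) = D.pt a b x₀ (D.fB k)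

structure Hyp : Prop where
  sqa : a * a = 1
  cubeb : b * b * b = 1
  rels : ∀ w ∈ D.rels, ∀ x : P, ev a b w • x = x
  subs : ∀ w ∈ D.subs, ev a b w • x₀ = x₀

variable {D a b x₀}

theorem word_fix (h : D.Hyp a b x₀) (r : ℕ) (x : P) : ev a b (D.word r) • x = x := by
  have key : ∀ (i : ℕ) (y : P), ev a b (D.rels.getD i []) • y = y := by
    intro i y
    rw [List.getD_eq_getElem?_getD]
    rcases hw : D.rels[i]? with _ | w
    · simp [ev]
    · simpa using h.rels w (List.mem_of_getElem? hw) y
  unfold word
  split
  · exact key _ x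
  · rw [ev_invW h.sqa h.cubeb, inv_smul_eq_iff, key]

theorem rotate_fix (h : D.Hyp a b x₀) (r q : ℕ) (x : P) :
    ev a b ((D.word r).drop q ++ (D.word r).take q) • x = x := by
  set u := (D.word r).take q with hu
  have e := word_fix h r ((ev a b u)⁻¹ • x)
  rw [← List.take_append_drop q (D.word r), ← hu, ev_append, mul_smul, smul_inv_smul] at e
  rw [ev_append, mul_smul, e, smul_inv_smul]

theorem path_sound (h : D.Hyp a b x₀) {len : ℕ} (hf : ∀ i < len, D.Holds a b x₀ i) (is : List ℕ) :
    ∀ {c : ℕ} {u : List ℕ} {e : ℕ}, D.path len is c = some (u, e) →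
      ev a b u • D.pt a b x₀ c = D.pt a b x₀ e := by
  induction is with
  | nil =>
    intro c u e he
    simp only [path, Option.some.injEq, Prod.mk.injEq] at he
    obtain ⟨rfl, rfl⟩ := he
    simp [ev]
  | cons it is ih =>
    intro c u e he
    simp only [path] at he
    split at he
    · exact absurd he (by simp)
    rename_i x v y hi
    split at he
    swap
    · exact absurd he (by simp)
    rename_i hxc
    subst hxc
    rcases hp : D.path len is y with _ | ⟨u', e'⟩
    · rw [hp] at he; simp at he
    rw [hp] at he
    simp only [Option.map_some, Option.some.injEq, Prod.mk.injEq] at he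
    obtain ⟨rfl, rfl⟩ := he
    have hact : ev a b v • D.pt a b x₀ x = D.pt a b x₀ y := by
      simp only [item] at hi
      split at hi
      swap
      · exact absurd hi (by simp)
      rename_i hlen
      have hh := hf _ hlen
      unfold Holds at hh
      split at hi <;> simp only [Option.some.injEq, Prod.mk.injEq] at hi <;>
        obtain ⟨rfl, rfl, rfl⟩ := hi
      · exact hh
      · rw [ev_invW h.sqa h.cubeb, inv_smul_eq_iff, hh]
    rw [ev_append, mul_smul, hact, ih hp]

theorem factOK_sound (h : D.Hyp a b x₀) {k : ℕ} (hf : ∀ i < k, D.Holds a b x₀ i) {l : Line}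
    (hok : D.factOK k l = true) : D.Holds a b x₀ k := by
  obtain ⟨rule, r, q, is⟩ := l
  unfold Holds
  match rule with
  | 0 =>
    simp only [factOK, decide_eq_true_eq] at hok
    obtain ⟨hg, ⟨hlt, hp, hl⟩ | ⟨hg1, hlt, hp, hl⟩⟩ := hok
    · conv_rhs => rw [pt, if_neg (by omega), hp, hl, min_eq_left (by omega)]
      congr 1
      interval_cases D.fG k <;> simp [letW, ev, gen]
    · conv_lhs => rw [pt, if_neg (by omega), hp, hl, min_eq_left (by omega)]
      rw [hg1, smul_smul]
      simp [letW, ev, gen, ← mul_assoc, h.cubeb]
  | 1 =>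
    simp only [factOK] at hok
    split at hok
    · exact absurd hok (by simp)
    rename_i u e hp
    simp only [decide_eq_true_eq] at hok
    obtain ⟨rfl, hu⟩ := hok
    rw [← ev_congr h.sqa h.cubeb hu]
    exact path_sound h hf is hp
  | 2 =>
    simp only [factOK] at hok
    split at hok
    · exact absurd hok (by simp)
    rename_i u e hp
    simp only [decide_eq_true_eq] at hok
    obtain ⟨he, hw⟩ := hok
    have hu := path_sound h hf is hp
    have hfix := rotate_fix h r q (D.pt a b x₀ (D.fA k))
    rw [← hw, ev_append, mul_smul] at hfix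
    rw [he] at hu
    exact smul_left_cancel _ (hfix.trans hu.symm)
  | n + 3 =>
    simp only [factOK] at hok
    split at hok
    · exact absurd hok (by simp)
    rename_i u e hp
    simp only [decide_eq_true_eq] at hok
    obtain ⟨he, hb, hr, hw⟩ := hok
    have hu := path_sound h hf is hp
    have hfix := h.subs (D.subs.getD r []) (by
      rw [List.getD_eq_getElem _ _ hr]; exact List.getElem_mem hr)
    rw [← hw, ev_append, mul_smul] at hfix
    rw [hb, pt_zero, ← he, ← hu, pt_zero]
    exact hfix

theorem linesOK_sound (h : D.Hyp a b x₀) (ls : List Line) :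
    ∀ k, D.linesOK ls k = true → (∀ i < k, D.Holds a b x₀ i) →
      ∀ i < k + ls.length, D.Holds a b x₀ i := by
  induction ls with
  | nil => intro k _ hf i hi; exact hf i (by simpa using hi)
  | cons l ls ih =>
    intro k hok hf i hi
    simp only [linesOK, Bool.and_eq_true] at hok
    refine ih (k + 1) hok.2 ?_ i (by simp at hi ⊢; omega)
    intro j hj
    rcases Nat.lt_succ_iff_lt_or_eq.mp hj with hh | rfl
    · exact hf j hh
    · exact factOK_sound h hf hok.1

theorem ok_sound (h : D.Hyp a b x₀) {target w : List ℕ} (hok : D.ok target w = true) :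
    ev a b w • x₀ = x₀ := by
  simp only [ok, Bool.and_eq_true] at hok
  obtain ⟨hl, ht⟩ := hok
  split at ht
  · exact absurd ht (by simp)
  rename_i u e hp
  simp only [decide_eq_true_eq] at ht
  obtain ⟨rfl, hu⟩ := ht
  have hall := linesOK_sound h D.lines 0 hl (by omega)
  have := path_sound h (fun i hi => hall i (by omega)) target hp
  rw [pt_zero, ev_congr h.sqa h.cubeb hu] at this
  exact this

end Deriv

end H54.J4
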